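import Cfsg.Agent.JankoOne.Exclude

/-!
A simple group with a 2-central involution with centralizer `2 × A₅` has order `175560`.
-/

set_option autoImplicit false
set_option linter.unusedSectionVars false

namespace Cfsg.Lib.JankoOne

open Subgroup Cfsg.Lib.Chars
open scoped ComplexConjugate

universe u

variable {G : Type u} [Group G] [Finite G] {S : Setup G}

theorem not_exception {m : Setup.Mults S} (X : Exception m) : False := by
  classical
  have := Fintype.ofFinite G
  have h7p : Fact (Nat.Prime 7) := ⟨by norm_num⟩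
  have h49 : ¬ 49 ∣ Nat.card G := by rw [X.order]; norm_num
  obtain ⟨y, hy⟩ := exists_prime_orderOf_dvd_card' (G := G) 7 (by rw [X.order]; norm_num)
  obtain ⟨a, hae, had, haab⟩ := value_rat X.χE X.fixE hy
  obtain ⟨p, hpe, hpd, hpab⟩ := value_rat X.χP X.fixP hy
  obtain ⟨q, hqe, hqd, hqab⟩ := value_rat X.χQ X.fixQ hy
  rw [X.degE] at had haab
  rw [X.degP] at hpd hpab
  rw [X.degQ] at hqd hqab
  have hvan : ∀ χ : Cfsg.IrrCharacter G, 7 ∣ deg (χ : G → ℂ) → (χ : G → ℂ) y = 0 := fun χ h =>
    eq_zero_of_defect_zero χ.2 (p := 7) (n := 1) (by norm_num) (by rw [X.order]; norm_num)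
      (by rw [X.order]; norm_num) (by rw [pow_one]; exact h) (by rw [hy])
  have hne : ¬ IsConj y (S.φ zc) := by
    intro h
    obtain ⟨g, hg⟩ := isConj_iff.1 h
    have h1 : orderOf (S.φ zc) = 7 := by
      rw [← hg, show g * y * g⁻¹ = (MulAut.conj g).toMonoidHom y from rfl,
        orderOf_injective (MulAut.conj g).toMonoidHom (MulAut.conj g).injective, hy]
    rw [orderOf_eq_prime (by rw [pow_two]; exact S.tt) S.t_ne] at h1
    norm_num at h1
  let o := princ G
  have hPQ : X.χP ≠ X.χQ := fun e => by
    have h := X.uP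
    rw [e, X.uQ] at h
    norm_num at h
  have hoE : o ≠ X.χE := fun e => by
    have h := X.degE
    rw [← e, deg_princ] at h
    norm_num at h
  have huo : Setup.uval m o = 1 := by
    simp only [o, Setup.uval, princ, m.princ]; decide
  have hoP : o ≠ X.χP := fun e => by
    have h := X.uP
    rw [← e, huo] at h
    norm_num at h
  have hoQ : o ≠ X.χQ := fun e => by
    have h := X.uQ
    rw [← e, huo] at h
    norm_num at h
  have hsplit : ∀ f : Cfsg.IrrCharacter G → ℂ, (∀ χ, Setup.uval m χ = 0 ∨ (χ : G → ℂ) y = 0 → f χ = 0) →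
      ∑ χ, f χ = f o + f X.χE + f X.χP + f X.χQ := by
    intro f hf
    rw [← Finset.sum_subset (Finset.subset_univ ({o, X.χE, X.χP, X.χQ} : Finset (Cfsg.IrrCharacter G))) fun χ _ hχ => ?_]
    · rw [Finset.sum_insert (by simp [hoE, hoP, hoQ]), Finset.sum_insert (by simp [X.neP.symm, X.neQ.symm]),
        Finset.sum_insert (by simp [hPQ]), Finset.sum_singleton]
      ring
    · simp only [Finset.mem_insert, Finset.mem_singleton, not_or] at hχ
      rcases X.others χ hχ.1 hχ.2.1 hχ.2.2.1 hχ.2.2.2 with h | h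
      · exact hf χ (Or.inl h)
      · exact hf χ (Or.inr (hvan χ h))
  have ho1 : (o : G → ℂ) y = 1 := rfl
  have horth := second_orthogonality y (S.φ zc)
  rw [if_neg hne] at horth
  simp only [Setup.value_t m, map_intCast] at horth
  rw [hsplit _ (fun χ h => by rcases h with h | h <;> simp [h])] at horth
  rw [ho1, hae, hpe, hqe, huo, X.uE, X.uP, X.uQ] at horth
  have e1 : 1 - a + 4 * p - 4 * q = 0 := by
    apply Int.cast_injective (α := ℂ)
    push_cast at horth ⊢
    linear_combination horth
  obtain rfl : p = q := by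
    obtain ⟨c1, h1⟩ := had; obtain ⟨c2, h2⟩ := hpd; obtain ⟨c3, h3⟩ := hqd
    omega
  obtain rfl : a = 1 := by omega
  -- the pairs of involutions with product `y`
  have hmult := class_mult_formula (G := G) (S.φ zc) (S.φ zc) y
  have hcl : (Nat.card {x : G // IsConj (S.φ zc) x} : ℂ) = 1575 := by
    have h := S.card_class
    rw [X.order] at h
    exact_mod_cast (show Nat.card {x : G // IsConj (S.φ zc) x} = 1575 by omega)
  simp only [Setup.value_t m, irr_apply_one_eq_deg, hcl, X.order] at hmult
  rw [hsplit _ (fun χ h => by rcases h with h | h <;> simp [h]), ho1, hae, hpe, hqe, huo, X.uE, X.uP, X.uQ,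
    deg_princ, X.degE, X.degP, X.degQ] at hmult
  have hPdiv : X.P ∣ 189000 := by
    have h := IsIrrCharacter.deg_dvd X.χP.2
    rwa [X.degP, X.order] at h
  have hP0 : (X.P : ℂ) ≠ 0 := Nat.cast_ne_zero.2 (by have := X.congrP; omega)
  have hK := count_seven X.order hy S
  simp only at hK
  obtain ⟨K, hKdef⟩ : ∃ K, K = Nat.card {p : G × G // IsConj (S.φ zc) p.1 ∧ IsConj (S.φ zc) p.2 ∧ p.1 * p.2 = y} :=
    ⟨_, rfl⟩
  rw [← hKdef] at hmult hK
  have e2 : (K : ℤ) * X.P = 14 * X.P + 420 * p := by
    apply Int.cast_injective (α := ℂ)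
    simp only [map_intCast, map_one, Int.cast_one, Int.cast_neg, Int.cast_ofNat, Nat.cast_one, Nat.cast_ofNat] at hmult
    push_cast
    rw [hmult]
    field_simp
    ring
  -- seven does not divide the degree
  have h7P : ¬ 7 ∣ X.P := by
    intro h
    have hp0 : p = 0 := by
      have := hvan X.χP (by rw [X.degP]; exact h)
      rw [hpe] at this
      exact_mod_cast this
    rw [hp0, mul_zero, add_zero] at e2
    have hK14 : (K : ℤ) = 14 := mul_right_cancel₀ (by exact_mod_cast (show X.P ≠ 0 by have := X.congrP; omega)) e2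
    rcases hK with h0 | ⟨⟨j, hj⟩, -⟩ <;> omega
  obtain ⟨d, hd⟩ := hpd
  have hP7 : (X.P : ℤ) % 7 ≠ 0 := by omega
  rcases hK with h0 | ⟨-, c, hc, hc3, b, hb⟩
  · rw [h0] at e2
    push_cast at e2
    omega
  · rw [hc] at e2
    push_cast at e2
    have hcm : c % 7 = 6 := by
      have e3 : (c : ℤ) * X.P = 2 * X.P + 60 * p := by linarith
      have e4 : ((c : ℤ) - 6) * X.P % 7 = 0 := by
        have : ((c : ℤ) - 6) * X.P = 7 * (8 * p) + (-4) * (7 * d) := by linear_combination e3 - 4 * hd
        rw [this, Int.add_emod, Int.mul_emod_right, mul_left_comm, Int.mul_emod_right]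
        rfl
      have : Fact (Nat.Prime 7) := h7p
      rcases (Int.prime_iff_natAbs_prime.2 (show Nat.Prime (Int.natAbs 7) by norm_num)).dvd_mul.1
        (Int.dvd_of_emod_eq_zero e4) with h | h
      · omega
      · omega
    have h := List.all_eq_true.1 divisors_check c
      (List.mem_range.2 (Nat.lt_succ_of_le (Nat.le_of_dvd (by norm_num) hc3)))
    simp only [Bool.or_eq_true, decide_eq_true_eq] at h
    have key : ∀ (r : ℕ) [Fact r.Prime] (i : Fin 4), i ≠ 0 → rep i ≠ 1 → rep i ^ r = 1 → c = r ^ 3 →
        ¬ r ^ 4 ∣ Nat.card G → False := by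
      intro r _ i hi hi1 hir hcr hr4
      set x := S.φ (1, rep i) with hx
      have hxr : orderOf x = r := by
        rw [hx, orderOf_injective S.φ S.inj]
        exact orderOf_eq_prime (Prod.ext (one_pow r) hir) fun e => hi1 (congrArg Prod.snd e)
      obtain ⟨P, hP⟩ := (IsPGroup.of_card (n := 1) (by rw [Nat.card_zpowers, hxr, pow_one]) :
        IsPGroup r (zpowers x)).exists_le_sylow
      obtain ⟨H, hH⟩ := Sylow.exists_subgroup_card_pow_prime (G := centralizer ({y} : Set G)) r (n := 3)
        ⟨7 * b, by rw [hb, hc, hcr]; ring⟩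
      obtain ⟨P', hP'⟩ := ((IsPGroup.of_card hH).map (centralizer ({y} : Set G)).subtype).exists_le_sylow
      have hcard : Nat.card (H.map (centralizer ({y} : Set G)).subtype) = r ^ 3 := by
        rw [Subgroup.card_map_of_injective (centralizer ({y} : Set G)).subtype_injective, hH]
      have heq : H.map (centralizer ({y} : Set G)).subtype = (P' : Subgroup G) := by
        refine Subgroup.eq_of_le_of_card_ge hP' ?_
        rw [hcard]
        obtain ⟨n, hn⟩ := P'.2.exists_card_eq
        rw [hn]
        refine Nat.pow_le_pow_right (Fact.out : r.Prime).pos ?_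
        by_contra hc'
        exact hr4 (dvd_trans (pow_dvd_pow r (Nat.not_le.1 hc')) (hn ▸ Subgroup.card_subgroup_dvd_card _))
      obtain ⟨g, hg⟩ := MulAction.exists_smul_eq G P P'
      have hxg : g * x * g⁻¹ ∈ centralizer ({y} : Set G) := by
        have : g * x * g⁻¹ ∈ (P' : Subgroup G) := by
          rw [← hg, Sylow.coe_subgroup_smul]
          exact ⟨x, hP (mem_zpowers x), rfl⟩
        rw [← heq] at this
        exact Subgroup.map_subtype_le _ this
      have hm : g⁻¹ * y * g ∈ centralizer ({x} : Set G) := by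
        rw [mem_centralizer_singleton_iff]
        have e := mem_centralizer_singleton_iff.1 hxg
        calc g⁻¹ * y * g * x = g⁻¹ * (y * (g * x * g⁻¹)) * g := by group
          _ = x * (g⁻¹ * y * g) := by rw [← e]; group
      have h := orderOf_dvd_natCard (⟨_, hm⟩ : centralizer ({x} : Set G))
      rw [Subgroup.orderOf_mk, show g⁻¹ * y * g = (MulAut.conj g⁻¹).toMonoidHom y by simp,
        orderOf_injective (MulAut.conj g⁻¹).toMonoidHom (MulAut.conj g⁻¹).injective, hy] at h
      exact S.seven_not h49 hi h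
    obtain ⟨o3, o3', o5, o5'⟩ := rep_orders
    rcases h with ((h | h) | h) | h
    · exact h hcm
    · exact h hc3
    · have : Fact (Nat.Prime 3) := ⟨Nat.prime_three⟩
      exact key 3 1 (by decide) o3' o3 h (by rw [X.order]; norm_num)
    · have : Fact (Nat.Prime 5) := ⟨by norm_num⟩
      exact key 5 2 (by decide) o5' o5 h (by rw [X.order]; norm_num)

/-- The order. -/
theorem isJOne {G : Type u} [Group G] [Finite G] [IsSimpleGroup G] (t : G) (ht : Cfsg.IsTwoCentralInvolution t)
    (e : centralizer ({t} : Set G) ≃* K) : Nat.card G = 175560 := by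
  obtain ⟨S, -⟩ := exists_setup t ht e
  obtain ⟨m⟩ := S.exists_mults
  obtain ⟨F⟩ := exists_family m
  rcases order_cases F with h | ⟨⟨X⟩⟩
  · exact h
  · exact (not_exception X).elim

end Cfsg.Lib.JankoOne
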