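import Mathlib

/-!
The arithmetic of the three compatible systems of degrees.
-/

set_option autoImplicit false
set_option maxRecDepth 20000

namespace Cfsg.Lib.JankoOne

theorem nat_eight {N : ℕ} (h8 : 8 ∣ N) (h16 : ¬ 16 ∣ N) : ∃ h : ℤ, (N : ℤ) = 8 * h ∧ h % 2 = 1 := by
  obtain ⟨h, rfl⟩ := h8
  refine ⟨h, by push_cast; ring, ?_⟩
  omega

/-- The sixth system is impossible. -/
theorem six_false {N : ℕ} (h8 : 8 ∣ N) {A B E : ℤ} (hAB : B + A = 0) (hE : 1 + E + B - A = 0) (hA : (8 : ℤ) ∣ A + 7 * 9)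
    (hE0 : E ≠ 0) (hA0 : A ≠ 0)
    (h : (86400 : ℚ) = (N : ℚ) * (1 + 1 / (E : ℚ) + 2 / (B : ℚ))) : False := by
  obtain rfl : B = -A := by omega
  obtain rfl : E = 2 * A - 1 := by omega
  have hEq : ((2 * A - 1 : ℤ) : ℚ) ≠ 0 := Int.cast_ne_zero.2 hE0
  have hAq : (A : ℚ) ≠ 0 := Int.cast_ne_zero.2 hA0
  have e : (86400 : ℤ) * A * (2 * A - 1) = 2 * (N : ℤ) * (A - 1) * (A - 1) := by
    have e' : ((86400 * A * (2 * A - 1) : ℤ) : ℚ) = ((2 * (N : ℤ) * (A - 1) * (A - 1) : ℤ) : ℚ) := by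
      push_cast at h hEq ⊢
      rw [h]
      field_simp
      ring
    exact_mod_cast e'
  obtain ⟨c, hc⟩ := hA
  obtain ⟨j, hj⟩ : ∃ j, A - 1 = 8 * j := ⟨c - 8, by omega⟩
  obtain ⟨q, rfl⟩ := h8
  obtain rfl : A = 8 * j + 1 := by omega
  push_cast at e
  have e2 : 675 * ((8 * j + 1) * (16 * j + 1)) = 8 * ((q : ℤ) * j * j) := by linarith
  have : (675 * ((8 * j + 1) * (16 * j + 1))) % 2 = 1 := by
    simp [Int.mul_emod, Int.add_emod]
  omega

/-- A square dividing the product in the fifth system has a small root. -/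
theorem five_roots : ((List.range 6751).all fun i =>
    let k : ℤ := (i : ℤ) - 3375
    decide (¬ k ∣ 3375) || decide (¬ k * k ∣ 675 * (8 * k + 5)) || decide (k % 2 = 0) ||
      ((List.range 921).all fun j =>
        let N : ℤ := 8 * (675 * (2 * k + 1) * (8 * k + 5) / (k * k))
        let a : ℤ := (j : ℤ) - 460
        let b : ℤ := 4 * k + 2
        let F : ℤ := -1 - a - b
        decide (N ≤ 0) || (decide (N ≤ 460 * 460) &&
          (decide (a = 0) || decide (F = 0) ||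
            decide (288000 * a * b * F ≠ N * (2 * a * b * F + 18 * b * F + 8 * a * F + 72 * a * b)))))) = true := by
  decide +kernel

/-- The fifth system is impossible. -/
theorem five_false {N : ℕ} (h8 : 8 ∣ N) (hN : 0 < N) {a b F P₁ P₂ D : ℤ} (hP : P₁ + P₂ = 0)
    (hD : 1 + b + b + D = 0) (hF : 1 + a + b + F = 0) (hb : (8 : ℤ) ∣ b + 7 * -2) (ha0 : a ≠ 0) (hb0 : b ≠ 0)
    (hF0 : F ≠ 0) (hD0 : D ≠ 0) (ha : a * a ≤ (N : ℤ))
    (h6 : (86400 : ℚ) = (N : ℚ) * (1 + 4 / (b : ℚ) + 4 / (b : ℚ) + 16 / (P₁ : ℚ) + 16 / (P₂ : ℚ) + 25 / (D : ℚ)))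
    (h10 : (288000 : ℚ) = (N : ℚ) * (2 + 9 / (a : ℚ) + 4 / (b : ℚ) + 72 / (F : ℚ) + 9 / (a : ℚ) + 4 / (b : ℚ) +
      -32 / (P₁ : ℚ) + -32 / (P₂ : ℚ))) : False := by
  obtain rfl : D = -1 - 2 * b := by omega
  obtain rfl : P₂ = -P₁ := by omega
  have hbq : (b : ℚ) ≠ 0 := Int.cast_ne_zero.2 hb0
  have haq : (a : ℚ) ≠ 0 := Int.cast_ne_zero.2 ha0
  have hFq : (F : ℚ) ≠ 0 := Int.cast_ne_zero.2 hF0
  have hDq : (-1 - 2 * (b : ℚ)) ≠ 0 := by exact_mod_cast hD0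
  have e6 : (86400 : ℤ) * b * (2 * b + 1) = 2 * (N : ℤ) * (b - 2) * (b - 2) := by
    have e' : ((86400 * b * (2 * b + 1) : ℤ) : ℚ) = ((2 * (N : ℤ) * (b - 2) * (b - 2) : ℤ) : ℚ) := by
      push_cast at h6 ⊢
      have hd' : (2 * (b : ℚ) + 1) ≠ 0 := fun e => hDq (by linarith)
      rw [h6, show (25 : ℚ) / (-1 - 2 * (b : ℚ)) = -(25 / (2 * (b : ℚ) + 1)) by
        rw [show -1 - 2 * (b : ℚ) = -(2 * (b : ℚ) + 1) by ring, div_neg], div_neg]
      have hu := div_mul_cancel₀ (4 : ℚ) hbq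
      have ht := div_mul_cancel₀ (25 : ℚ) hd'
      linear_combination 2 * (N : ℚ) * (2 * (b : ℚ) + 1) * hu - (N : ℚ) * (b : ℚ) * ht
    exact_mod_cast e'
  have e10 : (288000 : ℤ) * a * b * F = (N : ℤ) * (2 * a * b * F + 18 * b * F + 8 * a * F + 72 * a * b) := by
    have e' : ((288000 * a * b * F : ℤ) : ℚ) =
        (((N : ℤ) * (2 * a * b * F + 18 * b * F + 8 * a * F + 72 * a * b) : ℤ) : ℚ) := by
      push_cast at h10 ⊢
      rw [h10]
      field_simp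
      ring
    exact_mod_cast e'
  obtain ⟨c, hc⟩ := hb
  obtain ⟨k, hk, hkodd⟩ : ∃ k, b = 4 * k + 2 ∧ k % 2 = 1 := ⟨2 * c + 3, by omega, by omega⟩
  subst hk
  obtain ⟨q, rfl⟩ := h8
  push_cast at e6 e10
  have e : 675 * (2 * k + 1) * (8 * k + 5) = k * k * q := by linarith
  have hcop : IsCoprime (k * k) (2 * k + 1) := by
    have : IsCoprime k (2 * k + 1) := ⟨-2, 1, by ring⟩
    exact this.mul_left this
  have hdvd : k * k ∣ 675 * (8 * k + 5) := hcop.dvd_of_dvd_mul_left ⟨q, by linarith⟩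
  have hk3 : k ∣ 3375 := by
    have h1 : k ∣ 675 * (8 * k + 5) := dvd_trans (dvd_mul_right k k) hdvd
    obtain ⟨d, hd⟩ := h1
    exact ⟨d - 5400, by linarith⟩
  have hle := Int.le_of_dvd (by norm_num) hk3
  have hge : -3375 ≤ k := by
    have := Int.le_of_dvd (by norm_num) (Int.neg_dvd.2 hk3)
    omega
  have hq : 675 * (2 * k + 1) * (8 * k + 5) / (k * k) = q := by
    rw [e]
    exact Int.mul_ediv_cancel_left _ (mul_ne_zero (by omega) (by omega))
  have h := List.all_eq_true.1 five_roots (k + 3375).toNat (List.mem_range.2 (by omega))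
  have e0 : (((k + 3375).toNat : ℤ) - 3375) = k := by omega
  rw [e0] at h
  simp only [Bool.or_eq_true, Bool.and_eq_true, decide_eq_true_eq, List.all_eq_true, hq] at h
  rcases h with ((h | h) | h) | h
  · exact h hk3
  · exact h hdvd
  · omega
  · have hNb : (8 * (q : ℤ)) ≤ 460 * 460 := by
      rcases h 0 (List.mem_range.2 (by norm_num)) with hh | hh
      · omega
      · exact hh.1
    have hab : a ≤ 460 ∧ -460 ≤ a := by
      push_cast at ha
      constructor <;> nlinarith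
    have ea : (((a + 460).toNat : ℤ) - 460) = a := by omega
    rcases h (a + 460).toNat (List.mem_range.2 (by omega)) with hh | ⟨-, hh⟩
    · omega
    · rw [ea] at hh
      rw [show -1 - a - (4 * k + 2) = F by omega] at hh
      rcases hh with (hh | hh) | hh
      · exact ha0 hh
      · exact hF0 hh
      · exact hh (by linarith)

/-- The first system: the search. -/
theorem one_search : ((List.range 276).all fun i => (List.range 276).all fun j =>
    let a : ℤ := 8 * (i : ℤ) - 1101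
    let b : ℤ := 8 * (j : ℤ) - 1101
    decide (b.natAbs < a.natAbs) ||
    (let S : ℤ := a + b
     let p : ℤ := a * b
     let den : ℤ := S * (p + 25 * (S + 1))
     let num : ℤ := 86400 * (S + 1) * p
     let N : ℤ := num / den
     let k : ℤ := 2 * p + 125 * (S + 1)
     let r : ℤ := 27 * p * (S + 1) / k
     decide (den = 0) || decide (num % den ≠ 0) || decide (N % 16 ≠ 8) || decide (N % a ≠ 0) || decide (N % b ≠ 0) ||
       decide (N < 1 + (S + 1) * (S + 1) + a * a + b * b) || decide (k = 0) || decide (27 * p * (S + 1) % k ≠ 0) ||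
       decide (S * S < 4 * r) || decide (N = 175560) ||
       (decide (N = 189000) && decide (a = -21) && decide (b = 35) && decide (r = -735)))) = true := by
  decide +kernel

theorem one_bound {N a b : ℤ} (hN : 1 + (a + b + 1) * (a + b + 1) + a * a + b * b ≤ N) (ha : (8 : ℤ) ∣ a + 7 * -5)
    (hb : (8 : ℤ) ∣ b + 7 * -5) (hab : a.natAbs ≤ b.natAbs)
    (h : 86400 * (a + b + 1) * (a * b) = N * ((a + b) * (a * b + 25 * (a + b + 1)))) :
    b.natAbs ≤ 1100 := by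
  by_contra hB
  obtain ⟨c, hc⟩ := ha
  obtain ⟨d, hd⟩ := hb
  have h4 : 4 * |a| ≤ 29 * |a + 25| := by
    rcases le_or_gt 0 (a + 25) with h1 | h1 <;> rcases le_or_gt 0 a with h2 | h2
    · rw [abs_of_nonneg h1, abs_of_nonneg h2]; omega
    · rw [abs_of_nonneg h1, abs_of_neg h2]; omega
    · omega
    · rw [abs_of_neg h1, abs_of_neg h2]; omega
  have hB' : (1101 : ℤ) ≤ |b| := by
    rw [Int.abs_eq_natAbs]; omega
  set X := |a + 25| with hX
  set B := |b| with hBdef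
  have hX4 : 4 ≤ X := by
    rw [hX]
    rcases le_or_gt 0 (a + 25) with h1 | h1
    · rw [abs_of_nonneg h1]; omega
    · rw [abs_of_neg h1]; omega
  set w := a * b + 25 * (a + b + 1) with hw
  have hwlow : X * (B - 25) - 600 ≤ |w| := by
    have e : (a + 25) * (b + 25) = w + 600 := by rw [hw]; ring
    have h1 : |w + 600| ≤ |w| + 600 := by
      refine le_trans (abs_add_le _ _) ?_
      norm_num
    have h2 : B - 25 ≤ |b + 25| := by
      have := abs_add_le (b + 25) (-25)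
      rw [show b + 25 + -25 = b by ring, show |(-25 : ℤ)| = 25 by norm_num] at this
      omega
    rw [← e, abs_mul, ← hX] at h1
    nlinarith
  have hS : 2 * |a + b + 1| ≤ 3 * |a + b| := by
    have h2 : 2 ≤ |a + b| := by
      rcases le_or_gt 0 (a + b) with h1 | h1
      · rw [abs_of_nonneg h1]; omega
      · rw [abs_of_neg h1]; omega
    have := abs_add_le (a + b) 1
    norm_num at this
    linarith
  have hS0 : 0 < |a + b| := by
    refine abs_pos.2 fun e => ?_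
    omega
  have hN2 : B * B ≤ N := by
    rw [hBdef, abs_mul_abs_self]
    nlinarith [mul_self_nonneg (a + b + 1), mul_self_nonneg a]
  have habs := congrArg abs h
  rw [abs_mul, abs_mul, abs_mul, abs_mul N, abs_mul, ← hBdef, abs_of_nonneg (le_trans (mul_self_nonneg B) hN2),
    show |(86400 : ℤ)| = 86400 by norm_num] at habs
  have hA : |a| * B * 4 ≤ 29 * X * B := by nlinarith
  have h1 : N * |w| ≤ 129600 * (|a| * B) := by
    have : N * |w| * |a + b| ≤ 129600 * (|a| * B) * |a + b| := by nlinarith [mul_nonneg (abs_nonneg a) (abs_nonneg b)]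
    exact le_of_mul_le_mul_right this hS0
  have h2 : B * B * (X * (B - 175)) ≤ 939600 * X * B := by
    have h3 : X * (B - 175) ≤ |w| := by nlinarith
    have h4' : 0 ≤ X * (B - 175) := mul_nonneg (by linarith) (by linarith)
    have : B * B * (X * (B - 175)) ≤ N * |w| := mul_le_mul hN2 h3 h4' (le_trans (mul_self_nonneg B) hN2)
    linarith
  have hpos : 0 < X * B := mul_pos (by linarith) (by linarith)
  have h5 : X * B * (B * (B - 175)) ≤ X * B * 939600 := by linarith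
  have := le_of_mul_le_mul_left h5 hpos
  nlinarith

/-- The first system with ordered degrees. -/
theorem one_ordered {N : ℕ} (h8 : 8 ∣ N) (h16 : ¬ 16 ∣ N) {a b r : ℤ}
    (hN : 1 + (a + b + 1) * (a + b + 1) + a * a + b * b ≤ (N : ℤ)) (ha : (8 : ℤ) ∣ a + 7 * -5)
    (hb : (8 : ℤ) ∣ b + 7 * -5) (hab : a.natAbs ≤ b.natAbs) (hda : a ∣ (N : ℤ)) (hdb : b ∣ (N : ℤ))
    (hS : a + b + 1 ≠ 0) (hdisc : 4 * r ≤ (a + b) * (a + b))
    (h : 86400 * (a + b + 1) * (a * b) = (N : ℤ) * ((a + b) * (a * b + 25 * (a + b + 1))))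
    (hr : r * (2 * (a * b) + 125 * (a + b + 1)) = 27 * (a * b) * (a + b + 1)) :
    N = 175560 ∨ (N = 189000 ∧ a = -21 ∧ b = 35 ∧ r = -735) := by
  have hbd := one_bound hN ha hb hab h
  obtain ⟨c, hc⟩ := ha
  obtain ⟨d, hd⟩ := hb
  have hne : a ≠ 0 ∧ b ≠ 0 := ⟨by omega, by omega⟩
  have hk : 2 * (a * b) + 125 * (a + b + 1) ≠ 0 := by
    intro e
    rw [e, mul_zero] at hr
    exact hS (by simpa [hne] using hr.symm)
  have hden : (a + b) * (a * b + 25 * (a + b + 1)) ≠ 0 := by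
    intro e
    rw [e, mul_zero] at h
    exact hS (by simpa [hne] using h)
  have hs := List.all_eq_true.1 (List.all_eq_true.1 one_search ((a + 1101) / 8).toNat (List.mem_range.2 (by omega)))
    ((b + 1101) / 8).toNat (List.mem_range.2 (by omega))
  have ea : 8 * ((((a + 1101) / 8).toNat : ℤ)) - 1101 = a := by omega
  have eb : 8 * ((((b + 1101) / 8).toNat : ℤ)) - 1101 = b := by omega
  rw [ea, eb] at hs
  have hNq : 86400 * (a + b + 1) * (a * b) / ((a + b) * (a * b + 25 * (a + b + 1))) = (N : ℤ) := by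
    rw [h]; exact Int.mul_ediv_cancel _ hden
  have hrq : 27 * (a * b) * (a + b + 1) / (2 * (a * b) + 125 * (a + b + 1)) = r := by
    rw [← hr]; exact Int.mul_ediv_cancel _ hk
  simp only [Bool.or_eq_true, Bool.and_eq_true, decide_eq_true_eq, hNq, hrq] at hs
  rcases hs with hs | ((((((((((hs | hs) | hs) | hs) | hs) | hs) | hs) | hs) | hs) | hs) | hs)
  · omega
  · exact absurd hs hden
  · exact absurd (by rw [h]; exact Int.mul_emod_left _ _) hs
  · omega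
  · exact absurd (Int.emod_eq_zero_of_dvd hda) hs
  · exact absurd (Int.emod_eq_zero_of_dvd hdb) hs
  · omega
  · exact absurd hs hk
  · exact absurd (by rw [← hr]; exact Int.mul_emod_left _ _) hs
  · omega
  · exact Or.inl (by omega)
  · exact Or.inr ⟨by omega, hs.1.1.2, hs.1.2, hs.2⟩

/-- The first system. -/
theorem one_cases {N : ℕ} (h8 : 8 ∣ N) (h16 : ¬ 16 ∣ N) {R₁ R₂ R₃ R₄ E P₁ P₂ D₁ D₂ : ℤ} (hP : P₁ + P₂ = 0)
    (hR : 1 + E + R₁ + R₂ = 0) (hR' : 1 + E + R₃ + R₄ = 0) (hprod : R₃ * R₄ = R₁ * R₂)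
    (hD : 1 + E + D₁ + D₂ = 0) (hD1 : (8 : ℤ) ∣ D₁ + 7 * -5) (hD2 : (8 : ℤ) ∣ D₂ + 7 * -5)
    (hd1 : D₁ ∣ (N : ℤ)) (hd2 : D₂ ∣ (N : ℤ)) (hE0 : E ≠ 0) (hR10 : R₁ ≠ 0) (hR20 : R₂ ≠ 0) (hR30 : R₃ ≠ 0) (hR40 : R₄ ≠ 0)
    (hsq : 1 + E * E + D₁ * D₁ + D₂ * D₂ ≤ (N : ℤ))
    (h6 : (86400 : ℚ) = (N : ℚ) * (1 + 1 / (E : ℚ) + 16 / (P₁ : ℚ) + 16 / (P₂ : ℚ) + 25 / (D₁ : ℚ) + 25 / (D₂ : ℚ)))
    (h10 : (288000 : ℚ) = (N : ℚ) * (2 + 9 / (R₁ : ℚ) + 9 / (R₂ : ℚ) + 2 / (E : ℚ) + 9 / (R₃ : ℚ) + 9 / (R₄ : ℚ) +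
      -32 / (P₁ : ℚ) + -32 / (P₂ : ℚ))) :
    N = 175560 ∨ (N = 189000 ∧ E = -15 ∧ (∀ x ∈ [D₁, D₂, R₁, R₂, R₃, R₄], x = -21 ∨ x = 35)) := by
  obtain rfl : P₂ = -P₁ := by omega
  have hS : D₁ + D₂ + 1 ≠ 0 := by omega
  have hDne : D₁ ≠ 0 ∧ D₂ ≠ 0 := ⟨by omega, by omega⟩
  have q1 : (D₁ : ℚ) ≠ 0 := Int.cast_ne_zero.2 hDne.1
  have q2 : (D₂ : ℚ) ≠ 0 := Int.cast_ne_zero.2 hDne.2
  have qE : (E : ℚ) ≠ 0 := Int.cast_ne_zero.2 hE0
  have qR1 : (R₁ : ℚ) ≠ 0 := Int.cast_ne_zero.2 hR10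
  have qR2 : (R₂ : ℚ) ≠ 0 := Int.cast_ne_zero.2 hR20
  have qR3 : (R₃ : ℚ) ≠ 0 := Int.cast_ne_zero.2 hR30
  have qR4 : (R₄ : ℚ) ≠ 0 := Int.cast_ne_zero.2 hR40
  have e6 : 86400 * (D₁ + D₂ + 1) * (D₁ * D₂) = (N : ℤ) * ((D₁ + D₂) * (D₁ * D₂ + 25 * (D₁ + D₂ + 1))) := by
    have e' : 86400 * E * (D₁ * D₂) = (N : ℤ) * ((E + 1) * (D₁ * D₂) + 25 * E * (D₁ + D₂)) := by
      have e'' : ((86400 * E * (D₁ * D₂) : ℤ) : ℚ) =
          (((N : ℤ) * ((E + 1) * (D₁ * D₂) + 25 * E * (D₁ + D₂)) : ℤ) : ℚ) := by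
        push_cast at h6 ⊢
        rw [h6]
        field_simp
        ring
      exact_mod_cast e''
    rw [show E = -1 - (D₁ + D₂) by omega] at e'
    linear_combination -e'
  have hS34 : R₃ + R₄ = R₁ + R₂ := by omega
  have e10 : 288000 * E * (R₁ * R₂) = (N : ℤ) * (2 * (R₁ * R₂) * (E + 1) + 18 * (R₁ + R₂) * E) := by
    have hq : (9 : ℚ) / R₃ + 9 / R₄ = 9 / R₁ + 9 / R₂ := by
      have a1 : ((R₃ * R₄ : ℤ) : ℚ) = ((R₁ * R₂ : ℤ) : ℚ) := by rw [hprod]
      have a2 : ((R₃ + R₄ : ℤ) : ℚ) = ((R₁ + R₂ : ℤ) : ℚ) := by rw [hS34]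
      push_cast at a1 a2
      field_simp
      linear_combination (R₁ : ℚ) * R₂ * a2 - ((R₁ : ℚ) + R₂) * a1
    have e'' : ((288000 * E * (R₁ * R₂) : ℤ) : ℚ) =
        (((N : ℤ) * (2 * (R₁ * R₂) * (E + 1) + 18 * (R₁ + R₂) * E) : ℤ) : ℚ) := by
      push_cast at h10 ⊢
      rw [h10, show (2 : ℚ) + 9 / R₁ + 9 / R₂ + 2 / E + 9 / R₃ + 9 / R₄ + -32 / (P₁ : ℚ) + -32 / -(P₁ : ℚ) =
        2 + 2 * (9 / R₁ + 9 / R₂) + 2 / E by rw [div_neg]; linear_combination hq]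
      field_simp
      ring
    exact_mod_cast e''
  obtain rfl : E = -1 - (D₁ + D₂) := by omega
  have hN0 : (N : ℤ) ≠ 0 := by nlinarith
  have hS0 : D₁ + D₂ ≠ 0 := by
    intro e
    rw [e] at e6
    simp [hDne] at e6
  rw [show R₁ + R₂ = D₁ + D₂ by omega] at e10
  have hr : R₁ * R₂ * (2 * (D₁ * D₂) + 125 * (D₁ + D₂ + 1)) = 27 * (D₁ * D₂) * (D₁ + D₂ + 1) := by
    have e := mul_left_cancel₀ (a := (N : ℤ) * (D₁ + D₂)) (mul_ne_zero hN0 hS0)
      (b := 10 * (R₁ * R₂) * (D₁ * D₂ + 25 * (D₁ + D₂ + 1)))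
      (c := 3 * (D₁ * D₂) * (2 * (R₁ * R₂) + 18 * (D₁ + D₂ + 1)))
      (by linear_combination (-10 * (R₁ * R₂)) * e6 + (-3 * (D₁ * D₂)) * e10)
    linarith
  have hdisc : 4 * (R₁ * R₂) ≤ (D₁ + D₂) * (D₁ + D₂) := by
    rw [show D₁ + D₂ = R₁ + R₂ by omega]
    nlinarith [mul_self_nonneg (R₁ - R₂)]
  have key : N = 175560 ∨ (N = 189000 ∧ ((D₁ = -21 ∧ D₂ = 35) ∨ (D₁ = 35 ∧ D₂ = -21)) ∧ R₁ * R₂ = -735) := by
    rcases le_total D₁.natAbs D₂.natAbs with h | h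
    · rcases one_ordered h8 h16 (by nlinarith) hD1 hD2 h hd1 hd2 hS hdisc e6 hr with h | ⟨h, h1, h2, h3⟩
      · exact Or.inl h
      · exact Or.inr ⟨h, Or.inl ⟨h1, h2⟩, h3⟩
    · rcases one_ordered (r := R₁ * R₂) h8 h16 (a := D₂) (b := D₁) (by nlinarith) hD2 hD1 h hd2 hd1 (by omega)
          (by rw [add_comm D₂]; exact hdisc) (by rw [add_comm D₂, mul_comm D₂]; exact e6)
          (by rw [add_comm D₂, mul_comm D₂]; exact hr) with h | ⟨h, h1, h2, h3⟩
      · exact Or.inl h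
      · exact Or.inr ⟨h, Or.inr ⟨h2, h1⟩, h3⟩
  rcases key with h | ⟨h, hDD, hrv⟩
  · exact Or.inl h
  · refine Or.inr ⟨h, by omega, ?_⟩
    have hsum : R₁ + R₂ = 14 := by omega
    have root : ∀ x y : ℤ, x + y = 14 → x * y = -735 → x = -21 ∨ x = 35 := by
      intro x y h1 h2
      have : (x + 21) * (x - 35) = 0 := by
        obtain rfl : y = 14 - x := by omega
        linarith
      rcases mul_eq_zero.1 this with h3 | h3
      · exact Or.inl (by omega)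
      · exact Or.inr (by omega)
    simp only [List.mem_cons, List.not_mem_nil, or_false, forall_eq_or_imp, forall_eq]
    exact ⟨by omega, by omega, root R₁ R₂ hsum hrv, root R₂ R₁ (by omega) (by rw [mul_comm]; exact hrv),
      root R₃ R₄ (by omega) (hprod.trans hrv), root R₄ R₃ (by omega) (by rw [mul_comm]; exact hprod.trans hrv)⟩

end Cfsg.Lib.JankoOne
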