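import Cfsg.Agent.JankoOne.Rows
import Cfsg.Agent.JankoOne.Arith

/-!
The order is `175560`, or it is `189000` and the members with a nonzero value at the involution have known degrees.
-/

set_option autoImplicit false
set_option linter.unusedSectionVars false

namespace Cfsg.Lib.JankoOne

open Cfsg.Lib.Chars Cfsg.Lib.GramSplit

universe u

variable {G : Type u} [Group G] [Finite G] {S : Setup G}

/-- The members in the exceptional case of order `189000`. -/
structure Exception (m : Setup.Mults S) where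
  χE : Cfsg.IrrCharacter G
  χP : Cfsg.IrrCharacter G
  χQ : Cfsg.IrrCharacter G
  P : ℕ
  order : Nat.card G = 189000
  degE : deg (χE : G → ℂ) = 15
  degP : deg (χP : G → ℂ) = P
  degQ : deg (χQ : G → ℂ) = P
  congrP : P % 8 = 4
  uE : Setup.uval m χE = -1
  uP : Setup.uval m χP = 4
  uQ : Setup.uval m χQ = -4
  neP : χP ≠ χE
  neQ : χQ ≠ χE
  fixE : ∀ σ : ℂ ≃+* ℂ, galIrr σ χE = χE
  fixP : ∀ σ : ℂ ≃+* ℂ, galIrr σ χP = χP
  fixQ : ∀ σ : ℂ ≃+* ℂ, galIrr σ χQ = χQ
  others : ∀ χ, χ ≠ princ G → χ ≠ χE → χ ≠ χP → χ ≠ χQ → Setup.uval m χ = 0 ∨ 7 ∣ deg (χ : G → ℂ)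

theorem deg_of_D {m : Setup.Mults S} (F : Family m) {x : Cfsg.IrrCharacter G} {d : ℤ} (h : F.D x = d) :
    deg (x : G → ℂ) = d.natAbs := by
  rw [← h, Family.D, Int.natAbs_mul]
  rcases mul_self_eq_one_iff.1 (F.sg_sq x) with e | e <;> simp [e]

theorem sg_of_D {m : Setup.Mults S} (F : Family m) {x : Cfsg.IrrCharacter G} :
    (0 < F.D x → F.sg x = 1) ∧ (F.D x < 0 → F.sg x = -1) := by
  have hp := F.deg_pos x
  rcases mul_self_eq_one_iff.1 (F.sg_sq x) with e | e <;> simp [Family.D, e] <;> omega

/-- The order, up to the exceptional case. -/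
theorem order_cases {m : Setup.Mults S} (F : Family m) :
    Nat.card G = 175560 ∨ Nonempty (Exception m) := by
  classical
  have := Fintype.ofFinite G
  have hN : 0 < Nat.card G := Nat.card_pos
  have hmap := F.map_row
  have hgood := F.good
  simp only [goodSols, List.mem_cons, List.not_mem_nil, or_false] at hgood
  obtain ⟨σ₀, hσ₀⟩ := exists_swap_auto
  have hσne : σ₀ tau ≠ tau := by
    rw [hσ₀]
    intro h
    have h2 := tau_sq
    rw [show tau = 1 / 2 by linear_combination -(1 / 2 : ℂ) * h] at h2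
    norm_num at h2
  have e0 := F.degree_sum 0; have e1 := F.degree_sum 1; have e2 := F.degree_sum 2; have e3 := F.degree_sum 3
  have hsq := F.sq_sum
  have ht6 := F.eq_six
  have ht10 := F.eq_ten
  have key : ∀ {x y : Cfsg.IrrCharacter G}, y = galIrr σ₀ x → x ∈ F.L → y ∈ F.L ∧
      ((F.row y = swapRow (F.row x) ∧ F.D y = F.D x) ∨ F.row y = (swapRow (F.row x)).map Neg.neg) := by
    rintro x y rfl hx
    obtain ⟨hy, r, -, hs, -, hc⟩ := F.gal σ₀ hx
    obtain rfl := hs hσne
    exact ⟨hy, hc.imp id fun h => h.1⟩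
  rcases hgood with hs | hs | hs <;> rw [hs] at hmap <;>
    simp only [List.map_eq_cons_iff, List.map_eq_nil_iff] at hmap
  · obtain ⟨r1, _, hL, hr1, r2, _, rfl, hr2, xe, _, rfl, he, r3, _, rfl, hr3, r4, _, rfl, hr4, p1, _, rfl, hp1,
      p2, _, rfl, hp2, d1, _, rfl, hd1, d2, _, rfl, hd2, rfl⟩ := hmap
    simp only [hL, List.map_cons, List.map_nil, List.sum_cons, List.sum_nil, hr1, hr2, he, hr3, hr4, hp1, hp2,
      hd1, hd2] at e0 e1 e2 e3 hsq ht6 ht10
    simp [ent, prin, rowU, rowV, rowW] at e0 e1 e2 e3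
    norm_num [ent, rowU, rowV, rowW] at ht6 ht10
    rw [← Nat.card_eq_fintype_card] at ht6 ht10
    have hcd1 := F.D_congr d1; have hcd2 := F.D_congr d2
    rw [hd1] at hcd1; rw [hd2] at hcd2
    norm_num [ent, rowU] at hcd1 hcd2
    have hnd := F.nodup
    rw [hL] at hnd
    simp only [List.nodup_cons, List.mem_cons, List.not_mem_nil, not_or, or_false] at hnd
    -- the two pairs have the same degrees
    have himg : ∀ x, x = r1 ∨ x = r2 → (galIrr σ₀ x = r3 ∨ galIrr σ₀ x = r4) ∧ F.D (galIrr σ₀ x) = F.D x := by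
      intro x hx
      have hxr : F.row x = [1, 0, 0, 0] := by rcases hx with rfl | rfl <;> assumption
      have hxL : x ∈ F.L := by rw [hL]; rcases hx with rfl | rfl <;> simp
      obtain ⟨hy, hc⟩ := key rfl hxL
      rw [hL] at hy
      simp only [List.mem_cons, List.not_mem_nil, or_false] at hy
      rw [hxr] at hc
      rcases hy with h | h | h | h | h | h | h | h | h <;> rw [h] at hc <;>
        simp only [hr1, hr2, he, hr3, hr4, hp1, hp2, hd1, hd2, swapRow] at hc <;> simp at hc
      · exact ⟨Or.inl h, h ▸ hc⟩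
      · exact ⟨Or.inr h, h ▸ hc⟩
    have hprod : F.D r3 * F.D r4 = F.D r1 * F.D r2 := by
      obtain ⟨h1, h1'⟩ := himg r1 (Or.inl rfl)
      obtain ⟨h2, h2'⟩ := himg r2 (Or.inr rfl)
      rcases h1 with h1 | h1 <;> rcases h2 with h2 | h2 <;> rw [h1] at h1' <;> rw [h2] at h2'
      · exact absurd (galIrr_inj σ₀ (h1.trans h2.symm)) hnd.1.1
      · rw [h1', h2']
      · rw [h1', h2', mul_comm]
      · exact absurd (galIrr_inj σ₀ (h1.trans h2.symm)) hnd.1.1
    rcases one_cases (N := Nat.card G) S.eight S.sixteen (R₁ := F.D r1) (R₂ := F.D r2) (R₃ := F.D r3) (R₄ := F.D r4)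
      (E := F.D xe) (P₁ := F.D p1) (P₂ := F.D p2) (D₁ := F.D d1) (D₂ := F.D d2)
      (by linarith only [e2]) (by linarith only [e0]) (by linarith only [e1]) hprod (by linarith only [e3])
      hcd1 hcd2 (F.D_dvd _) (F.D_dvd _) (F.D_ne _) (F.D_ne _) (F.D_ne _) (F.D_ne _) (F.D_ne _)
      (by
        nlinarith only [hsq, mul_self_nonneg (F.D r1), mul_self_nonneg (F.D r2), mul_self_nonneg (F.D r3),
          mul_self_nonneg (F.D r4), mul_self_nonneg (F.D p1), mul_self_nonneg (F.D p2)])
      (by linear_combination ht6) (by linear_combination ht10) with h | ⟨hord, hE, hall⟩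
    · exact Or.inl h
    refine Or.inr ?_
    simp only [List.mem_cons, List.not_mem_nil, or_false, forall_eq_or_imp, forall_eq] at hall
    have hseven : ∀ x, F.D x = -21 ∨ F.D x = 35 → 7 ∣ deg (x : G → ℂ) := fun x hx => by
      rcases hx with hx | hx <;> rw [deg_of_D F hx] <;> decide
    have hcp := F.D_congr p1
    rw [hp1] at hcp
    norm_num [ent, rowU] at hcp
    have hPQ : F.D p2 = -F.D p1 := by linarith only [e2]
    have hfix : ∀ x, x = xe ∨ x = p1 ∨ x = p2 → ∀ σ, galIrr σ x = x := by
      intro x hx σ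
      have hxL : x ∈ F.L := by rw [hL]; rcases hx with rfl | rfl | rfl <;> simp
      obtain ⟨hy, r, hr, -, -, hc⟩ := F.gal σ hxL
      have hrr : r = F.row x := by
        rcases hr with h | h
        · exact h
        · rw [h]; rcases hx with rfl | rfl | rfl <;> simp [he, hp1, hp2, swapRow]
      subst hrr
      rw [hL] at hy
      simp only [List.mem_cons, List.not_mem_nil, or_false] at hy
      have hPne := F.D_ne p1
      rcases hx with rfl | rfl | rfl <;> rcases hy with h | h | h | h | h | h | h | h | h <;> rw [h] at hc <;>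
        simp only [hr1, hr2, he, hr3, hr4, hp1, hp2, hd1, hd2] at hc <;> simp at hc <;>
        first | exact h | (exfalso; omega)
    have hrest : ∀ χ, χ ≠ princ G → χ ≠ xe → χ ≠ p1 → χ ≠ p2 → Setup.uval m χ = 0 ∨ 7 ∣ deg (χ : G → ℂ) := by
      intro χ h0 h1 h2 h3
      by_cases hχ : χ ∈ F.L
      · right
        rw [hL] at hχ
        simp only [List.mem_cons, List.not_mem_nil, or_false] at hχ
        rcases hχ with rfl | rfl | rfl | rfl | rfl | rfl | rfl | rfl | rfl
        · exact hseven _ hall.2.2.1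
        · exact hseven _ hall.2.2.2.1
        · exact absurd rfl h1
        · exact hseven _ hall.2.2.2.2.1
        · exact hseven _ hall.2.2.2.2.2
        · exact absurd rfl h2
        · exact absurd rfl h3
        · exact hseven _ hall.1
        · exact hseven _ hall.2.1
      · left
        simp [Setup.uval, F.rest_zero χ h0 hχ]
    have huE : Setup.uval m xe = -1 := by
      rw [F.uval_eq, he, (sg_of_D F).2 (by omega)]; decide
    rcases lt_or_gt_of_ne (F.D_ne p1) with hneg | hpos
    · exact ⟨⟨xe, p2, p1, (F.D p1).natAbs, hord, deg_of_D F hE, by rw [deg_of_D F hPQ]; simp, deg_of_D F rfl,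
        by have := F.deg_pos p1; have h := hcp; omega, huE,
        by rw [F.uval_eq, hp2, (sg_of_D F).1 (by omega)]; decide,
        by rw [F.uval_eq, hp1, (sg_of_D F).2 hneg]; decide,
        fun e => by rw [e, he] at hp2; simp at hp2, fun e => by rw [e, he] at hp1; simp at hp1,
        hfix _ (Or.inl rfl), hfix _ (Or.inr (Or.inr rfl)), hfix _ (Or.inr (Or.inl rfl)),
        fun χ a b c d => hrest χ a b d c⟩⟩
    · exact ⟨⟨xe, p1, p2, (F.D p1).natAbs, hord, deg_of_D F hE, deg_of_D F rfl, by rw [deg_of_D F hPQ]; simp,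
        by omega, huE,
        by rw [F.uval_eq, hp1, (sg_of_D F).1 hpos]; decide,
        by rw [F.uval_eq, hp2, (sg_of_D F).2 (by omega)]; decide,
        fun e => by rw [e, he] at hp1; simp at hp1, fun e => by rw [e, he] at hp2; simp at hp2,
        hfix _ (Or.inl rfl), hfix _ (Or.inr (Or.inl rfl)), hfix _ (Or.inr (Or.inr rfl)), hrest⟩⟩
  · obtain ⟨r1, _, hL, hr1, r2, _, rfl, hr2, xe, _, rfl, he, r3, _, rfl, hr3, r4, _, rfl, hr4, xb, _, rfl, hb,
      xa, _, rfl, ha, rfl⟩ := hmap
    simp only [hL, List.map_cons, List.map_nil, List.sum_cons, List.sum_nil, hr1, hr2, he, hr3, hr4, hb, ha]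
      at e2 e3 ht6
    simp [ent, prin] at e2 e3
    norm_num [ent, rowU, rowV] at ht6
    rw [← Nat.card_eq_fintype_card] at ht6
    have hca := F.D_congr xa
    rw [ha] at hca
    norm_num [ent, rowU] at hca
    exact (six_false S.eight (A := F.D xa) (B := F.D xb) (E := F.D xe) (by linarith only [e2])
      (by linarith only [e3]) hca (F.D_ne _) (F.D_ne _) (by linear_combination ht6)).elim
  · obtain ⟨xa, _, hL, ha, xb, _, rfl, hb, xf, _, rfl, hf, xa', _, rfl, ha', xb', _, rfl, hb', p1, _, rfl, hp1,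
      p2, _, rfl, hp2, xd, _, rfl, hd, rfl⟩ := hmap
    simp only [hL, List.map_cons, List.map_nil, List.sum_cons, List.sum_nil, ha, hb, hf, ha', hb', hp1, hp2, hd]
      at e0 e2 e3 hsq ht6 ht10
    simp [ent, prin] at e0 e2 e3
    norm_num [ent, rowU, rowV, rowW] at ht6 ht10
    rw [← Nat.card_eq_fintype_card] at ht6 ht10
    have hcb := F.D_congr xb
    rw [hb] at hcb
    norm_num [ent, rowU] at hcb
    have hxaL : xa ∈ F.L := by rw [hL]; simp
    have hxbL : xb ∈ F.L := by rw [hL]; simp
    have hA : F.D xa' = F.D xa := by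
      obtain ⟨hy, hc⟩ := key rfl hxaL
      rw [hL] at hy
      simp only [List.mem_cons, List.not_mem_nil, or_false] at hy
      rw [ha] at hc
      rcases hy with h | h | h | h | h | h | h | h <;> rw [h] at hc <;>
        simp only [ha, hb, hf, ha', hb', hp1, hp2, hd, swapRow] at hc <;> simp at hc
      exact hc
    have hB : F.D xb' = F.D xb := by
      obtain ⟨hy, hc⟩ := key rfl hxbL
      rw [hL] at hy
      simp only [List.mem_cons, List.not_mem_nil, or_false] at hy
      rw [hb] at hc
      rcases hy with h | h | h | h | h | h | h | h <;> rw [h] at hc <;>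
        simp only [ha, hb, hf, ha', hb', hp1, hp2, hd, swapRow] at hc <;> simp at hc
      exact hc
    simp only [hA, hB] at ht6 ht10
    refine (five_false S.eight hN (a := F.D xa) (b := F.D xb) (F := F.D xf) (P₁ := F.D p1) (P₂ := F.D p2)
      (D := F.D xd) (by linarith only [e2]) (by linarith only [e3, hB]) (by linarith only [e0]) hcb
      (F.D_ne _) (F.D_ne _) (F.D_ne _) (F.D_ne _) ?_ (by linear_combination ht6) (by linear_combination ht10)).elim
    nlinarith only [hsq, mul_self_nonneg (F.D xb), mul_self_nonneg (F.D xf), mul_self_nonneg (F.D xa'),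
      mul_self_nonneg (F.D xb'), mul_self_nonneg (F.D p1), mul_self_nonneg (F.D p2), mul_self_nonneg (F.D xd)]

end Cfsg.Lib.JankoOne
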