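import Cfsg.Agent.JankoOne.Table
import Cfsg.Agent.Chars.Induced
import Cfsg.Agent.Chars.Perm

/-!
The four functions on `A₅` are generalized characters, and the special functions on the model `2 × A₅`.
-/

set_option autoImplicit false
set_option linter.unusedSectionVars false
set_option maxRecDepth 8000

namespace Cfsg.Lib.JankoOne

open Cfsg.Lib.Chars Equiv
open scoped ComplexConjugate

/-! ### Linear characters of cyclic groups -/

/-- The linear character of a cyclic group with a given value at the generator. -/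
noncomputable def cyc (n : ℕ) [NeZero n] (z : ℂ) (hz : z ^ n = 1) : Multiplicative (ZMod n) →* ℂˣ where
  toFun x := Units.mk0 (z ^ (Multiplicative.toAdd x).val) (pow_ne_zero _ fun e => by
    rw [e, zero_pow (NeZero.ne n)] at hz
    exact zero_ne_one hz)
  map_one' := Units.ext (by simp)
  map_mul' x y := Units.ext (by
    simp only [Units.val_mk0, toAdd_mul, Units.val_mul, ZMod.val_add]
    rw [← pow_add, ← pow_eq_pow_mod _ hz])

theorem cyc_apply (n : ℕ) [NeZero n] (z : ℂ) (hz : z ^ n = 1) (x : Multiplicative (ZMod n)) :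
    (cyc n z hz x : ℂ) = z ^ (Multiplicative.toAdd x).val := rfl

/-- The embedding of the cyclic group of order five. -/
noncomputable def emb5 : Multiplicative (ZMod 5) →* A where
  toFun x := fE ^ (Multiplicative.toAdd x).val
  map_one' := by simp
  map_mul' x y := by
    simp only [toAdd_mul, ZMod.val_add]
    rw [← pow_add, ← pow_eq_pow_mod _ fE_pow]

theorem emb5_inj : Function.Injective emb5 := by
  intro x y h
  have := fE_inj ⟨(Multiplicative.toAdd x).val, ZMod.val_lt _⟩ ⟨(Multiplicative.toAdd y).val, ZMod.val_lt _⟩ h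
  exact Multiplicative.toAdd.injective (ZMod.val_injective 5 (congrArg Fin.val this))

/-- The cyclic subgroup of order five. -/
noncomputable abbrev C5 : Subgroup A := emb5.range

theorem card_C5 : Nat.card C5 = 5 := by
  rw [C5, ← Nat.card_congr (MonoidHom.ofInjective emb5_inj).toEquiv]
  simp

/-- The function on the cyclic subgroup. -/
noncomputable def lin5 (j : ℕ) : C5 → ℂ := fun x =>
  (cyc 5 (zet ^ j) (by rw [← pow_mul, mul_comm, pow_mul, zet_pow, one_pow]) ((MonoidHom.ofInjective emb5_inj).symm x) : ℂ)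

theorem ind5 (j : ℕ) (u : A) : Cfsg.indFun C5 (lin5 j) u = (5 : ℂ)⁻¹ *
    ((cnt u 0 : ℂ) + cnt u 1 * zet ^ j + cnt u 2 * zet ^ (2 * j) + cnt u 3 * zet ^ (3 * j) + cnt u 4 * zet ^ (4 * j)) := by
  rw [indFun_apply, card_C5]
  congr 1
  have key : ∀ g : A, Cfsg.extendByZero C5 (lin5 j) (g⁻¹ * u * g) =
      ∑ m : Fin 5, if g⁻¹ * u * g = fE ^ (m : ℕ) then zet ^ ((m : ℕ) * j) else 0 := by
    intro g
    by_cases hg : g⁻¹ * u * g ∈ C5
    · obtain ⟨x, hx⟩ := id hg
      rw [extendByZero_mem _ hg, lin5,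
        show (MonoidHom.ofInjective emb5_inj).symm ⟨g⁻¹ * u * g, hg⟩ = x by
          rw [MulEquiv.symm_apply_eq]; exact Subtype.ext hx.symm, cyc_apply]
      rw [Finset.sum_eq_single (⟨(Multiplicative.toAdd x).val, ZMod.val_lt _⟩ : Fin 5)]
      · refine Eq.trans ?_ (if_pos ?_).symm
        · rw [← pow_mul, mul_comm]
        · exact hx.symm
      · intro m _ hm
        exact if_neg fun e => hm (fE_inj _ _ (e.symm.trans hx.symm))
      · simp
    · rw [extendByZero_not_mem _ hg]
      symm
      refine Finset.sum_eq_zero fun m _ => ?_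
      refine if_neg fun e => hg ⟨Multiplicative.ofAdd ((m : ℕ) : ZMod 5), ?_⟩
      show fE ^ (((m : ℕ) : ZMod 5)).val = _
      rw [ZMod.val_natCast, Nat.mod_eq_of_lt m.2, e]
  rw [Finset.sum_congr rfl fun g _ => key g, Finset.sum_comm]
  simp only [← Finset.sum_filter, Finset.sum_const, nsmul_eq_mul, Fin.sum_univ_five, cnt]
  push_cast
  simp [Fin.val_one]

theorem gen5 (j : ℕ) : Cfsg.IsGeneralizedCharacter A (Cfsg.indFun C5 (lin5 j)) :=
  IsGeneralizedCharacter.indFun (IsGeneralizedCharacter.comp_hom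
    (IsCharacter.isGeneralized (isCharacter_linear
      (cyc 5 (zet ^ j) (by rw [← pow_mul, mul_comm, pow_mul, zet_pow, one_pow]))))
    (MonoidHom.ofInjective emb5_inj).symm.toMonoidHom)

theorem ind5_zero (u : A) :
    Cfsg.indFun C5 (lin5 0) u = (5 : ℂ)⁻¹ * ev (cnt u 0 + cnt u 1 + cnt u 2 + cnt u 3 + cnt u 4, 0) := by
  rw [ind5, ev_int]; simp

theorem ind5_one (u : A) : Cfsg.indFun C5 (lin5 1) u = (5 : ℂ)⁻¹ * ev (cnt u 0 - cnt u 1, cnt u 1 - cnt u 2) := by
  rw [ind5, ev_def, ← (cnt_sym u).1, ← (cnt_sym u).2]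
  push_cast
  linear_combination (5 : ℂ)⁻¹ * ((cnt u 1 : ℂ) * zet_one_add + (cnt u 2 : ℂ) * zet_two_add)

theorem ind5_two (u : A) : Cfsg.indFun C5 (lin5 2) u =
    (5 : ℂ)⁻¹ * ev (cnt u 0 - cnt u 2, cnt u 2 - cnt u 1) := by
  rw [ind5, ev_def, ← (cnt_sym u).1, ← (cnt_sym u).2,
    show zet ^ (3 * 2) = zet ^ 1 by rw [show 3 * 2 = 5 + 1 from rfl, pow_add, zet_pow, one_mul],
    show zet ^ (4 * 2) = zet ^ 3 by rw [show 4 * 2 = 5 + 3 from rfl, pow_add, zet_pow, one_mul]]
  push_cast
  linear_combination (5 : ℂ)⁻¹ * ((cnt u 1 : ℂ) * zet_two_add + (cnt u 2 : ℂ) * zet_one_add)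

theorem perm5 (u : A) : permChar A (Fin 5) u = (fix5 u : ℂ) := by
  classical
  rw [permChar, fix5, Nat.card_eq_fintype_card, ← Set.toFinset_card]
  congr 1
  congr 1
  ext i
  simp [MulAction.mem_fixedBy]
  rfl

/-- The four functions are generalized characters. -/
theorem gen_psi (i : Fin 4) : Cfsg.IsGeneralizedCharacter A (fun u => ev (psi u i)) := by
  have hp : Cfsg.IsGeneralizedCharacter A (permChar A (Fin 5) - fun _ => 1) :=
    IsGeneralizedCharacter.sub (IsCharacter.isGeneralized (isCharacter_permChar _))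
      (IsCharacter.isGeneralized isCharacter_one)
  have h4 : Cfsg.IsGeneralizedCharacter A (Cfsg.indFun C5 (lin5 0) - Cfsg.indFun C5 (lin5 1) -
      Cfsg.indFun C5 (lin5 2) + ((permChar A (Fin 5) - fun _ => 1) + (permChar A (Fin 5) - fun _ => 1))) :=
    IsGeneralizedCharacter.add (IsGeneralizedCharacter.sub (IsGeneralizedCharacter.sub (gen5 0) (gen5 1)) (gen5 2))
      (IsGeneralizedCharacter.add hp hp)
  have hv : ∀ (u : A) (i : Fin 4), ev (psi u i) = (5 : ℂ)⁻¹ * ev (comb u i) := by
    intro u i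
    rw [comb_check, map_zsmul, zsmul_eq_mul]; push_cast
    ring
  fin_cases i
  · convert IsGeneralizedCharacter.add (IsGeneralizedCharacter.sub (gen5 1) hp) h4 using 1
    funext u
    simp only [Pi.add_apply, Pi.sub_apply, hv, ind5_zero, ind5_one, ind5_two, perm5, comb]
    simp [ev_def]; ring
  · convert IsGeneralizedCharacter.add (IsGeneralizedCharacter.sub (gen5 2) hp) h4 using 1
    funext u
    simp only [Pi.add_apply, Pi.sub_apply, hv, ind5_zero, ind5_one, ind5_two, perm5, comb]
    simp [ev_def]; ring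
  · convert hp using 1
    funext u
    simp only [Pi.sub_apply, hv, perm5, comb]
    simp [ev_def]
  · convert h4 using 1
    funext u
    simp only [Pi.add_apply, Pi.sub_apply, hv, ind5_zero, ind5_one, ind5_two, perm5, comb]
    simp [ev_def]; ring

/-- The four functions on the model. -/
noncomputable def theta (i : Fin 4) (k : K) : ℂ := if k.1 = 1 then 0 else 2 * ev (psi k.2 i)

theorem gen_theta (i : Fin 4) : Cfsg.IsGeneralizedCharacter K (theta i) := by
  have h : Cfsg.IsGeneralizedCharacter K ((fun k : K => (1 : ℂ) - (cyc 2 (-1) (by norm_num) k.1 : ℂ)) *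
      fun k : K => ev (psi k.2 i)) :=
    IsGeneralizedCharacter.mul (IsGeneralizedCharacter.sub (IsCharacter.isGeneralized isCharacter_one)
      (IsGeneralizedCharacter.comp_hom (IsCharacter.isGeneralized (isCharacter_linear (cyc 2 (-1) (by norm_num))))
        (MonoidHom.fst (Multiplicative (ZMod 2)) A)))
      (IsGeneralizedCharacter.comp_hom (gen_psi i) (MonoidHom.snd (Multiplicative (ZMod 2)) A))
  convert h using 1
  funext k
  have hk : k.1 = 1 ∨ k.1 = Multiplicative.ofAdd 1 := by
    revert k; decide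
  simp only [Pi.mul_apply, theta, cyc_apply]
  rcases hk with e | e <;> rw [e]
  · simp
  · rw [if_neg (by decide), toAdd_ofAdd, ZMod.val_one]; norm_num

theorem conj_theta (i : Fin 4) (k : K) : conj (theta i k) = theta i k := by
  unfold theta
  split_ifs <;> simp [conj_ev, Complex.conj_ofNat]

/-- Sums over the model of functions supported outside `A₅`. -/
theorem sum_outer {M : Type} [AddCommMonoid M] (F : K → M) (hF : ∀ k : K, k.1 = 1 → F k = 0) :
    ∑ k, F k = ∑ u : A, F (Multiplicative.ofAdd 1, u) := by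
  rw [Fintype.sum_prod_type]
  refine Finset.sum_eq_single (f := fun s => ∑ u : A, F (s, u)) (Multiplicative.ofAdd (1 : ZMod 2))
    (fun s _ hs => Finset.sum_eq_zero fun u _ => hF _ ?_) (by simp)
  exact (show ∀ s : Multiplicative (ZMod 2), s ≠ Multiplicative.ofAdd 1 → s = 1 by decide) s hs

theorem gram_sum (i j : Fin 4) : ∑ k, theta i k * theta j k = 120 * (gram i j : ℂ) := by
  rw [sum_outer _ fun k hk => by simp [theta, hk]]
  simp only [theta, if_neg (show Multiplicative.ofAdd (1 : ZMod 2) ≠ 1 by decide)]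
  have h := congrArg ev (psi_inner_check i j)
  rw [map_sum, ev_int] at h
  simp only [ev_mulT] at h
  rw [show (120 : ℂ) * (gram i j : ℂ) = 4 * ((30 * gram i j : ℤ) : ℂ) by push_cast; ring, ← h, Finset.mul_sum]
  exact Finset.sum_congr rfl fun u _ => by ring

theorem prin_sum (i : Fin 4) : ∑ k, theta i k = 120 * (prin i : ℂ) := by
  rw [sum_outer _ fun k hk => by simp [theta, hk]]
  simp only [theta, if_neg (show Multiplicative.ofAdd (1 : ZMod 2) ≠ 1 by decide)]
  have h := congrArg ev (psi_prin_check i)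
  rw [map_sum, ev_int] at h
  rw [show (120 : ℂ) * (prin i : ℂ) = 2 * ((60 * prin i : ℤ) : ℂ) by push_cast; ring, ← h, Finset.mul_sum]

end Cfsg.Lib.JankoOne
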