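import Cfsg.Agent.JankoOne.Local
import Cfsg.Agent.JankoOne.Model
import Cfsg.Agent.Chars.Sums
import Cfsg.Agent.Chars.Count

/-!
The exceptional multiplicities, the values at the elements with a given 2-part, the class multiplication
equations and the action of field automorphisms.
-/

set_option autoImplicit false
set_option linter.unusedSectionVars false

namespace Cfsg.Lib.JankoOne

open Subgroup Cfsg.Lib.Chars
open scoped ComplexConjugate

universe u

variable {G : Type u} [Group G] [Finite G]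

/-- The embedding of an elementary abelian group of order eight. -/
def emb8 (x : Multiplicative (ZMod 2) × Multiplicative (ZMod 2) × Multiplicative (ZMod 2)) : K :=
  (x.1, ⟨Equiv.swap 0 1 * Equiv.swap 2 3, Equiv.Perm.mem_alternatingGroup.2 (by decide +kernel)⟩ ^ (Multiplicative.toAdd x.2.1).val *
    ⟨Equiv.swap 0 2 * Equiv.swap 1 3, Equiv.Perm.mem_alternatingGroup.2 (by decide +kernel)⟩ ^ (Multiplicative.toAdd x.2.2).val)

theorem emb8_mul : ∀ x y, emb8 (x * y) = emb8 x * emb8 y := by decide +kernel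

theorem emb8_one : ∀ x, emb8 x = 1 ↔ x = 1 := by decide +kernel

theorem emb8_sq : ∀ x, emb8 x * emb8 x = 1 := by decide +kernel

/-- The permutation of the four functions given by an automorphism of `ℂ`. -/
noncomputable def galPerm (σ : ℂ ≃+* ℂ) : Equiv.Perm (Fin 4) :=
  open Classical in if σ tau = tau then 1 else Equiv.swap 0 1

theorem auto_theta (σ : ℂ ≃+* ℂ) (i : Fin 4) (k : K) : σ (theta i k) = theta (galPerm σ i) k := by
  unfold theta galPerm
  by_cases hk : k.1 = 1
  · simp [hk]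
  · simp only [if_neg hk, map_mul, map_ofNat]
    rcases auto_tau σ with h | h
    · rw [if_pos h, (auto_ev σ _).1 h]; rfl
    · by_cases h' : σ tau = tau
      · rw [if_pos h', (auto_ev σ _).1 h']; rfl
      · rw [if_neg h', (auto_ev σ _).2 h]
        obtain ⟨h1, h2, h3, h0⟩ := psi_conj k.2
        fin_cases i
        · rw [show Equiv.swap (0 : Fin 4) 1 (⟨0, by norm_num⟩ : Fin 4) = 1 by decide]; exact congrArg (fun z => 2 * ev z) h1.symm
        · rw [show Equiv.swap (0 : Fin 4) 1 (⟨1, by norm_num⟩ : Fin 4) = 0 by decide]; exact congrArg (fun z => 2 * ev z) h0.symm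
        · rw [show Equiv.swap (0 : Fin 4) 1 (⟨2, by norm_num⟩ : Fin 4) = 2 by decide]; exact congrArg (fun z => 2 * ev z) h2.symm
        · rw [show Equiv.swap (0 : Fin 4) 1 (⟨3, by norm_num⟩ : Fin 4) = 3 by decide]; exact congrArg (fun z => 2 * ev z) h3.symm

/-- The Galois conjugate of an irreducible character. -/
noncomputable def galIrr (σ : ℂ ≃+* ℂ) (χ : Cfsg.IrrCharacter G) : Cfsg.IrrCharacter G :=
  ⟨fun g => σ ((χ : G → ℂ) g), IsIrrCharacter.map_auto χ.2 σ⟩

theorem galIrr_deg (σ : ℂ ≃+* ℂ) (χ : Cfsg.IrrCharacter G) : deg (galIrr σ χ : G → ℂ) = deg (χ : G → ℂ) := by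
  apply Nat.cast_injective (R := ℂ)
  rw [← irr_apply_one_eq_deg, ← irr_apply_one_eq_deg]
  show σ ((χ : G → ℂ) 1) = _
  rw [irr_apply_one_eq_deg, map_natCast]

namespace Setup

variable (S : Setup G)

/-- The representative of an outer class. -/
noncomputable def el (a : Fin 4) : G := S.φ (Multiplicative.ofAdd 1, rep a)

theorem el_zero : S.el 0 = S.φ zc := rfl

theorem el_pow (a : Fin 4) : S.el a ^ 15 = S.φ zc := by rw [el, ← map_pow, rep_pow]

theorem mem_cent (k : K) : S.φ k ∈ centralizer ({S.φ zc} : Set G) := S.cent ▸ ⟨k, rfl⟩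

theorem exists_pre {x : G} (hx : x * S.φ zc = S.φ zc * x) : ∃ k, S.φ k = x := by
  have h : x ∈ S.φ.range := by rw [S.cent]; exact mem_centralizer_singleton_iff.2 hx
  exact h

theorem tt : S.φ zc * S.φ zc = 1 := by rw [← map_mul, zc_sq.1, map_one]

theorem t_ne : S.φ zc ≠ 1 := fun h => zc_sq.2 (S.inj (h.trans S.φ.map_one.symm))

/-- The model as the centralizer. -/
noncomputable def iso : K ≃* centralizer ({S.φ zc} : Set G) :=
  (MonoidHom.ofInjective S.inj).trans (MulEquiv.subgroupCongr S.cent)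

theorem iso_coe (k : K) : (S.iso k : G) = S.φ k := rfl

theorem card_cent : Nat.card (centralizer ({S.φ zc} : Set G)) = 120 := by
  rw [← Nat.card_congr S.iso.toEquiv, Nat.card_eq_fintype_card, card_K]

theorem dvd_card (S : Setup G) : 120 ∣ Nat.card G := by
  have h := Subgroup.card_subgroup_dvd_card (centralizer ({S.φ zc} : Set G))
  rwa [S.card_cent] at h

theorem card_class : Nat.card {x : G // IsConj (S.φ zc) x} * 120 = Nat.card G := by
  have h := card_isConj_mul (S.φ zc)
  rwa [S.card_cent] at h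

theorem conj_iff_inv (x : G) : IsConj (S.φ zc) x ↔ x * x = 1 ∧ x ≠ 1 := by
  refine ⟨fun h => ?_, fun h => S.conj x h.1 h.2⟩
  obtain ⟨g, rfl⟩ := isConj_iff.1 h
  refine ⟨?_, fun e => S.t_ne (conj_eq_one_iff.1 e)⟩
  calc _ = g * (S.φ zc * S.φ zc) * g⁻¹ := by group
    _ = 1 := by rw [S.tt]; group

theorem ti {k k' : K} {g : G} (hk : k ^ 15 = zc) (hk' : k' ^ 15 = zc) (he : g * S.φ k * g⁻¹ = S.φ k') :
    g ∈ centralizer ({S.φ zc} : Set G) := by
  rw [mem_centralizer_singleton_iff]
  have h := congrArg (· ^ 15) he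
  simp only [conj_pow, ← map_pow, hk, hk'] at h
  calc g * S.φ zc = g * S.φ zc * g⁻¹ * g := by group
    _ = S.φ zc * g := by rw [h]

/-- A special function on the centralizer. -/
noncomputable def pull (i : Fin 4) : centralizer ({S.φ zc} : Set G) → ℂ := fun x => theta i (S.iso.symm x)

theorem gen_pull (i : Fin 4) : Cfsg.IsGeneralizedCharacter (centralizer ({S.φ zc} : Set G)) (S.pull i) :=
  IsGeneralizedCharacter.comp_hom (gen_theta i) S.iso.symm.toMonoidHom

theorem pow_of_theta {i : Fin 4} {k : K} (h : theta i k ≠ 0) : k ^ 15 = zc := by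
  rw [theta] at h
  split_ifs at h with h1
  · exact absurd rfl h
  · have e : k = ((Multiplicative.ofAdd 1, k.2) : K) := Prod.ext ((fst_cases k.1).resolve_left h1) rfl
    rw [e]
    exact psi_odd k.2 i fun e0 => h (by rw [e0, map_zero, mul_zero])

theorem ind_apply [Fintype G] (i : Fin 4) (k : K) (hk : k ^ 15 = zc) :
    Cfsg.indFun (centralizer ({S.φ zc} : Set G)) (S.pull i) (S.φ k) = theta i k := by
  classical
  have hcl := isClassFunction_generalized (S.gen_pull i)
  have hval : S.pull i (S.iso k) = theta i k := by simp [pull]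
  let H := centralizer ({S.φ zc} : Set G)
  have hsupp : ∀ g : G, Cfsg.extendByZero H (S.pull i) (g⁻¹ * S.φ k * g) =
      if g ∈ H then theta i k else 0 := by
    intro g
    split_ifs with hg
    · rw [extendByZero_mem _ (H.mul_mem (H.mul_mem (H.inv_mem hg) (S.mem_cent k)) hg), ← hval]
      have := hcl (S.iso k) (⟨g, hg⟩ : H)⁻¹
      rw [inv_inv] at this
      exact this
    · by_cases hm : g⁻¹ * S.φ k * g ∈ H
      · rw [extendByZero_mem _ hm]
        by_contra hne
        refine hg (inv_mem_iff.1 (S.ti hk (pow_of_theta (k := S.iso.symm ⟨_, hm⟩) hne) ?_))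
        rw [← S.iso_coe (S.iso.symm ⟨_, hm⟩), MulEquiv.apply_symm_apply, inv_inv]
      · exact extendByZero_not_mem _ hm
  rw [indFun_apply, Finset.sum_congr rfl fun g _ => hsupp g, Finset.sum_ite, Finset.sum_const_zero, add_zero,
    Finset.sum_const, nsmul_eq_mul, ← Fintype.card_subtype, ← Nat.card_eq_fintype_card, ← mul_assoc,
    show Nat.card {g : G // g ∈ H} = Nat.card H from rfl,
    inv_mul_cancel₀ (Nat.cast_ne_zero.2 Nat.card_pos.ne'), one_mul]

theorem inner_pull [Fintype (centralizer ({S.φ zc} : Set G))] (i : Fin 4)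
    (F : centralizer ({S.φ zc} : Set G) → ℂ) :
    Cfsg.classInner (S.pull i) F = (120 : ℂ)⁻¹ * ∑ k, theta i k * conj (F (S.iso k)) := by
  rw [classInner_def, S.card_cent, ← Equiv.sum_comp S.iso.toEquiv (fun x => S.pull i x * conj (F x))]
  simp [pull]

/-- The multiplicities. -/
structure Mults (S : Setup G) where
  n : Fin 4 → Cfsg.IrrCharacter G → ℤ
  eval : ∀ i χ, (n i χ : ℂ) = (120 : ℂ)⁻¹ * ∑ k, theta i k * conj ((χ : G → ℂ) (S.φ k))
  norms : ∀ [Fintype (Cfsg.IrrCharacter G)] (i j : Fin 4), ∑ χ, n i χ * n j χ = gram i j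
  princ : ∀ i, n i ⟨_, isIrrCharacter_one⟩ = prin i
  degs : ∀ [Fintype (Cfsg.IrrCharacter G)] (i : Fin 4), ∑ χ, n i χ * (deg (χ : G → ℂ) : ℤ) = 0

theorem exists_mults : Nonempty (Mults S) := by
  classical
  have := Fintype.ofFinite G
  let H := centralizer ({S.φ zc} : Set G)
  have := Fintype.ofFinite H
  choose n hn using fun (i : Fin 4) (χ : Cfsg.IrrCharacter G) =>
    IsGeneralizedCharacter.exists_mult (IsGeneralizedCharacter.indFun (S.gen_pull i)) χ.2
  refine ⟨⟨n, fun i χ => ?_, fun {inst} i j => ?_, fun i => ?_, fun {inst} i => ?_⟩⟩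
  · rw [← hn, frobenius_reciprocity _ _ (isClassFunction_irr χ), S.inner_pull]
    rfl
  · apply Int.cast_injective (α := ℂ)
    have hj := classFunction_expand (isClassFunction_indFun H (S.pull j))
    have e1 : Cfsg.classInner (Cfsg.indFun H (S.pull i)) (Cfsg.indFun H (S.pull j)) =
        ((∑ χ, n i χ * n j χ : ℤ) : ℂ) := by
      conv_lhs => rw [hj]
      rw [classInner_sum_right]
      push_cast
      refine Finset.sum_congr (by ext; simp) fun χ _ => ?_
      rw [classInner_smul_right, hn, hn, mul_comm]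
      simp
    rw [← e1, frobenius_reciprocity _ _ (isClassFunction_indFun _ _), S.inner_pull,
      Finset.sum_congr rfl (g := fun k => theta i k * theta j k) fun k _ => ?_, gram_sum,
      inv_mul_cancel_left₀ (by norm_num : (120 : ℂ) ≠ 0)]
    by_cases hk : theta i k = 0
    · simp [hk]
    · rw [S.iso_coe, S.ind_apply j k (pow_of_theta hk), conj_theta]
  · apply Int.cast_injective (α := ℂ)
    rw [← hn, frobenius_reciprocity _ _ (isClassFunction_irr _), S.inner_pull]
    simp only [map_one, mul_one]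
    rw [prin_sum, inv_mul_cancel_left₀ (by norm_num : (120 : ℂ) ≠ 0)]
  · apply Int.cast_injective (α := ℂ)
    push_cast
    have := classFunction_expand_apply (isClassFunction_indFun H (S.pull i)) 1
    rw [indFun_one, show S.pull i 1 = 0 by simp [pull, theta], mul_zero] at this
    rw [this]
    exact Finset.sum_congr (by ext; simp) fun χ _ => by rw [hn, irr_apply_one_eq_deg]

variable {S}

theorem conj_value (χ : Cfsg.IrrCharacter G) {a : Fin 4} {u : A} (h : CA u (rep a)) :
    (χ : G → ℂ) (S.φ (Multiplicative.ofAdd 1, u)) = (χ : G → ℂ) (S.el a) := by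
  obtain ⟨c, rfl⟩ := h
  have : ((Multiplicative.ofAdd 1, c * rep a * c⁻¹) : K) = (1, c) * (Multiplicative.ofAdd 1, rep a) * (1, c)⁻¹ :=
    Prod.ext (by simp) rfl
  rw [this, map_mul, map_mul, map_inv]
  exact isClassFunction_irr χ _ _

/-- The value at a representative. -/
theorem value (m : Mults S) (χ : Cfsg.IrrCharacter G) (a : Fin 4) :
    (χ : G → ℂ) (S.el a) = ∑ i, ev (coef a i) * (m.n i χ : ℂ) := by
  classical
  have h1 : ∀ i, (m.n i χ : ℂ) =
      (60 : ℂ)⁻¹ * ∑ u : A, ev (psi u i) * conj ((χ : G → ℂ) (S.φ (Multiplicative.ofAdd 1, u))) := fun i => by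
    rw [m.eval, sum_outer _ fun k hk => by simp [theta, hk], Finset.mul_sum, Finset.mul_sum]
    refine Finset.sum_congr rfl fun u _ => ?_
    rw [theta, if_neg (show Multiplicative.ofAdd (1 : ZMod 2) ≠ 1 by decide)]
    ring
  have h2 : ∀ u : A, ∑ i, ev (coef a i) * ev (psi u i) = if CA u (rep a) then (JankoOne.cent a : ℂ) else 0 := fun u => by
    have h := congrArg ev (coef_check a u)
    rw [map_sum] at h
    simp only [ev_mulT] at h
    rw [h]
    split_ifs
    · rw [ev_int]; simp
    · rw [map_zero]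
  have key : ∑ i, ev (coef a i) * (m.n i χ : ℂ) = conj ((χ : G → ℂ) (S.el a)) := by
    calc ∑ i, ev (coef a i) * (m.n i χ : ℂ)
        = (60 : ℂ)⁻¹ * ∑ u : A, (∑ i, ev (coef a i) * ev (psi u i)) *
            conj ((χ : G → ℂ) (S.φ (Multiplicative.ofAdd 1, u))) := by
          simp only [h1, Finset.mul_sum, Finset.sum_mul]
          rw [Finset.sum_comm]
          exact Finset.sum_congr rfl fun u _ => Finset.sum_congr rfl fun i _ => by ring
      _ = (60 : ℂ)⁻¹ * ∑ u : A, (if CA u (rep a) then (JankoOne.cent a : ℂ) * conj ((χ : G → ℂ) (S.el a)) else 0) := by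
          congr 1
          refine Finset.sum_congr rfl fun u _ => ?_
          rw [h2]
          split_ifs with hu
          · rw [conj_value χ hu]
          · rw [zero_mul]
      _ = _ := by
          rw [← Finset.sum_filter, Finset.sum_const, nsmul_eq_mul, ← mul_assoc ((Finset.card _ : ℕ) : ℂ),
            ← Nat.cast_mul, class_card]
          push_cast; ring
  rw [← Complex.conj_conj ((χ : G → ℂ) (S.el a)), ← key, map_sum]
  simp only [map_mul, conj_ev, map_intCast]

/-- The value at the involution. -/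
def uval (m : Mults S) (χ : Cfsg.IrrCharacter G) : ℤ := 3 * m.n 0 χ + 3 * m.n 1 χ + 4 * m.n 2 χ - 5 * m.n 3 χ

theorem value_t (m : Mults S) (χ : Cfsg.IrrCharacter G) : (χ : G → ℂ) (S.φ zc) = (uval m χ : ℂ) := by
  rw [← S.el_zero, value m χ 0, uval]
  simp [Fin.sum_univ_four, coef, ev_def]; ring

/-- The multiplicities of a Galois conjugate. -/
theorem gal_n (m : Mults S) (σ : ℂ ≃+* ℂ) (χ : Cfsg.IrrCharacter G) (i : Fin 4) :
    m.n (galPerm σ i) (galIrr σ χ) = m.n i χ := by
  apply Int.cast_injective (α := ℂ)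
  have h := congrArg σ (m.eval i χ)
  rw [map_intCast, map_mul, map_inv₀, map_ofNat, map_sum] at h
  rw [h, m.eval]
  congr 1
  refine Finset.sum_congr rfl fun k _ => ?_
  rw [map_mul, auto_theta]
  congr 1
  show conj ((galIrr σ χ : G → ℂ) (S.φ k)) = σ (conj ((χ : G → ℂ) (S.φ k)))
  rw [← IsCharacter.conj_inv (isCharacter_of_irr (galIrr σ χ).2), ← IsCharacter.conj_inv (isCharacter_of_irr χ.2)]
  rfl

theorem congr_eight (m : Mults S) (χ : Cfsg.IrrCharacter G) : (8 : ℤ) ∣ (deg (χ : G → ℂ) : ℤ) + 7 * uval m χ := by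
  classical
  let E8 := Multiplicative (ZMod 2) × Multiplicative (ZMod 2) × Multiplicative (ZMod 2)
  let ι : E8 →* G := S.φ.comp
    { toFun := emb8, map_one' := (emb8_one 1).2 rfl, map_mul' := emb8_mul }
  have hv : ∀ x : E8, (χ : G → ℂ) (ι x) = if x = 1 then (deg (χ : G → ℂ) : ℂ) else (uval m χ : ℂ) := by
    intro x
    split_ifs with hx
    · rw [hx, map_one, irr_apply_one_eq_deg]
    · rw [← value_t m χ]
      have hne : emb8 x ≠ 1 := fun e => hx ((emb8_one x).1 e)
      have hc : IsConj (S.φ zc) (ι x) := (S.conj_iff_inv _).2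
        ⟨by show S.φ (emb8 x) * S.φ (emb8 x) = 1; rw [← map_mul, emb8_sq, map_one],
          fun e => hne (S.inj (e.trans S.φ.map_one.symm))⟩
      exact (classFunction_eq_of_isConj (isClassFunction_irr χ) hc).symm
  obtain ⟨k, hk⟩ := IsGeneralizedCharacter.exists_mult
    (IsCharacter.isGeneralized (IsCharacter.comp_hom (isCharacter_of_irr χ.2) ι)) (isIrrCharacter_one (G := E8))
  rw [classInner_def] at hk
  simp only [map_one, mul_one, hv] at hk
  rw [Finset.sum_ite, Finset.sum_const, Finset.sum_const, nsmul_eq_mul, nsmul_eq_mul,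
    show (Finset.univ.filter fun x : E8 => x = 1).card = 1 from rfl,
    show (Finset.univ.filter fun x : E8 => ¬ x = 1).card = 7 from rfl,
    show Nat.card E8 = 8 by simp [E8]] at hk
  refine ⟨k, ?_⟩
  apply Int.cast_injective (α := ℂ)
  push_cast at hk ⊢
  rw [← hk]; ring

theorem pairs (a : Fin 4) :
    Nat.card {p : G × G // IsConj (S.φ zc) p.1 ∧ IsConj (S.φ zc) p.2 ∧ p.1 * p.2 = S.el a} =
      (![30, 6, 10, 10] : Fin 4 → ℕ) a := by
  classical
  rw [← inverting a, ← Nat.card_eq_finsetCard]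
  symm
  set X : K := (Multiplicative.ofAdd 1, rep a) with hX
  refine Nat.card_congr (Equiv.ofBijective (fun k => ⟨(S.φ k.1, S.φ (k.1 * X)), ?_⟩) ⟨?_, ?_⟩)
  · obtain ⟨h1, h2, h3, h4⟩ := (Finset.mem_filter.1 k.2).2
    refine ⟨(S.conj_iff_inv _).2 ⟨by rw [← map_mul, h1, map_one], fun e => h2 (S.inj (e.trans S.φ.map_one.symm))⟩,
      (S.conj_iff_inv _).2 ⟨by rw [← map_mul, show k.1 * X * (k.1 * X) = k.1 * X * k.1 * X by group, h3, map_one],
        fun e => h4 ?_⟩, ?_⟩
    · have e' : k.1 * X = 1 := S.inj (e.trans S.φ.map_one.symm)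
      calc k.1 = k.1 * (k.1 * X) := by rw [e', mul_one]
        _ = X := by rw [← mul_assoc, h1, one_mul]
    · show S.φ k.1 * S.φ (k.1 * X) = S.φ X
      rw [← map_mul, ← mul_assoc, h1, one_mul]
  · intro v w h
    exact Subtype.ext (S.inj (congrArg (fun z => z.1.1) h))
  · rintro ⟨⟨x, y⟩, hx, hy, hxy⟩
    obtain ⟨hxx, hx1⟩ := (S.conj_iff_inv _).1 hx
    obtain ⟨hyy, hy1⟩ := (S.conj_iff_inv _).1 hy
    have hinv : x * S.el a * x⁻¹ = (S.el a)⁻¹ := by
      refine eq_inv_of_mul_eq_one_left ?_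
      rw [inv_eq_of_mul_eq_one_right hxx, ← hxy]
      calc x * (x * y) * x * (x * y) = (x * x) * y * (x * x) * y := by group
        _ = 1 := by rw [hxx, one_mul, mul_one, hyy]
    have hxt : x * S.φ zc = S.φ zc * x := by
      have h := congrArg (· ^ 15) hinv
      simp only [conj_pow, inv_pow, S.el_pow] at h
      rw [inv_eq_of_mul_eq_one_right S.tt] at h
      calc x * S.φ zc = x * S.φ zc * x⁻¹ * x := by group
        _ = S.φ zc * x := by rw [h]
    obtain ⟨k, rfl⟩ := S.exists_pre hxt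
    have hy' : y = S.φ (k * X) := by
      rw [map_mul, show S.φ X = S.φ k * y from hxy.symm, ← mul_assoc, hxx, one_mul]
    subst hy'
    refine ⟨⟨k, Finset.mem_filter.2 ⟨Finset.mem_univ _, S.inj (by rw [map_mul, hxx, map_one]),
      fun e => hx1 (by rw [e, map_one]), S.inj ?_, fun e => hy1 ?_⟩⟩, rfl⟩
    · rw [map_one, ← hyy]
      show S.φ (k * X * k * X) = S.φ (k * X) * S.φ (k * X)
      rw [← map_mul]; congr 1; group
    · show S.φ (k * X) = 1
      rw [← e, map_mul, hxx]

/-- The class multiplication equations. -/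
theorem equation [Fintype G] (a : Fin 4) (m : Mults S) :
    (14400 * (![30, 6, 10, 10] : Fin 4 → ℕ) a : ℂ) = (Nat.card G : ℂ) *
      ∑ χ : Cfsg.IrrCharacter G, (uval m χ : ℂ) * uval m χ * conj ((χ : G → ℂ) (S.el a)) / (deg (χ : G → ℂ) : ℂ) := by
  have h := class_mult_formula (G := G) (S.φ zc) (S.φ zc) (S.el a)
  rw [pairs] at h
  have hG : (Nat.card G : ℂ) ≠ 0 := Nat.cast_ne_zero.2 Nat.card_pos.ne'
  have hc : (Nat.card {x : G // IsConj (S.φ zc) x} : ℂ) * 120 = (Nat.card G : ℂ) := by exact_mod_cast S.card_class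
  simp only [value_t m, irr_apply_one_eq_deg] at h
  rw [h]
  obtain ⟨T, hT⟩ : ∃ T, T = ∑ χ : Cfsg.IrrCharacter G,
      (uval m χ : ℂ) * uval m χ * conj ((χ : G → ℂ) (S.el a)) / (deg (χ : G → ℂ) : ℂ) := ⟨_, rfl⟩
  rw [← hT]
  field_simp
  rw [← hc]
  ring

end Setup

end Cfsg.Lib.JankoOne
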