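import Cfsg.Agent.JankoOne.Exc

/-!
Seven does not divide the order of the centralizer of an element of order three or five centralized by an
involution.
-/

set_option autoImplicit false
set_option linter.unusedSectionVars false

namespace Cfsg.Lib.JankoOne

open Subgroup

universe u

variable {G : Type u} [Group G] [Finite G]

/-- Two commuting involutive maps of a finite set of odd order have a common fixed point. -/
theorem common_fixed {T : Type*} [Fintype T] [DecidableEq T] (hodd : ¬ 2 ∣ Fintype.card T) (f g : T → T)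
    (hf : ∀ x, f (f x) = x) (hg : ∀ x, g (g x) = x) (hfg : ∀ x, f (g x) = g (f x)) :
    ∃ x, f x = x ∧ g x = x := by
  have : Fact (Nat.Prime 2) := ⟨Nat.prime_two⟩
  let σ : Equiv.Perm T := ⟨f, f, hf, hf⟩
  let F := {x : T // f x = x}
  have hF : ¬ 2 ∣ Fintype.card F := by
    intro h
    apply hodd
    have h1 := Equiv.Perm.card_fixedPoints_modEq (f := (f : Function.End T)) (p := 2) (n := 1)
      (by funext x; exact hf x)
    have h2 : Fintype.card (Function.fixedPoints (f : T → T)) = Fintype.card F :=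
      Fintype.card_congr (Equiv.subtypeEquivRight fun x => Iff.rfl)
    rw [Nat.ModEq] at h1
    have h3 : Fintype.card T % 2 = 0 := by
      rw [h1]
      exact (congrArg (· % 2) h2).trans (Nat.mod_eq_zero_of_dvd h)
    exact Nat.dvd_of_mod_eq_zero h3
  let τ : Equiv.Perm F :=
    ⟨fun x => ⟨g x.1, by rw [hfg, x.2]⟩, fun x => ⟨g x.1, by rw [hfg, x.2]⟩,
      fun x => Subtype.ext (hg x.1), fun x => Subtype.ext (hg x.1)⟩
  obtain ⟨x, hx⟩ := Equiv.Perm.exists_fixed_point_of_prime (n := 1) hF (σ := τ) (by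
    refine Equiv.ext fun x => ?_
    show τ (τ x) = x
    exact Subtype.ext (hg x.1))
  exact ⟨x.1, x.2, congrArg Subtype.val hx⟩

/-- An odd number of Sylow subgroups, when a Sylow 2-subgroup has order two. -/
theorem odd_sylow {C : Type*} [Group C] [Finite C] (h2 : 2 ∣ Nat.card C) (h4 : ¬ 4 ∣ Nat.card C) {p : ℕ}
    [Fact p.Prime] (hp : p ≠ 2) : ¬ 2 ∣ Nat.card (Sylow p C) := by
  intro heven
  have : Fact (Nat.Prime 2) := ⟨Nat.prime_two⟩
  obtain ⟨P₂⟩ := (inferInstance : Nonempty (Sylow 2 C))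
  have hP : Nat.card (P₂ : Subgroup C) = 2 := by
    obtain ⟨n, hn⟩ := P₂.2.exists_card_eq
    have hd := P₂.pow_dvd_card_of_pow_dvd_card (n := 1) (by simpa using h2)
    have hle : n < 2 := by
      by_contra hc
      exact h4 (dvd_trans (pow_dvd_pow 2 (Nat.not_lt.1 hc)) (hn ▸ Subgroup.card_subgroup_dvd_card _))
    interval_cases n
    · rw [hn] at hd; norm_num at hd
    · rw [hn, pow_one]
  have hcyc : IsCyclic (P₂ : Subgroup C) := isCyclic_of_prime_card hP
  have hmin : (Nat.card C).minFac = 2 := Nat.minFac_eq_two_iff _ |>.2 h2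
  let τ := MonoidHom.transferSylow P₂ (IsCyclic.normalizer_le_centralizer hmin hcyc)
  have hc := MonoidHom.ker_transferSylow_isComplement' P₂ (IsCyclic.normalizer_le_centralizer hmin hcyc)
  have hMidx : τ.ker.index = 2 := by rw [Subgroup.IsComplement'.index_eq_card hc.symm, hP]
  obtain ⟨Q⟩ := (inferInstance : Nonempty (Sylow p C))
  have hodd_mem : ∀ x : C, Odd (orderOf x) → x ∈ τ.ker := by
    intro x ⟨k, hk⟩
    have h := Subgroup.sq_mem_of_index_two hMidx (x ^ (k + 1))
    rwa [← pow_mul, show (k + 1) * 2 = orderOf x + 1 by omega, pow_succ, pow_orderOf_eq_one, one_mul] at h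
  have hNodd : ¬ 2 ∣ Nat.card (normalizer ((Q : Subgroup C) : Set C)) := by
    intro hd
    apply h4
    refine dvd_trans (Nat.mul_dvd_mul hd heven) ?_
    rw [Q.card_eq_index_normalizer]
    exact (Subgroup.card_mul_index _).dvd
  have hN : normalizer ((Q : Subgroup C) : Set C) ≤ τ.ker := fun x hx => hodd_mem x (by
    rw [← Subgroup.orderOf_mk x hx]
    exact Odd.of_dvd_nat (Nat.odd_iff.2 (Nat.two_dvd_ne_zero.1 hNodd)) (orderOf_dvd_natCard _))
  have htop := Q.normalizer_sup_eq_top' (N := τ.ker) (Subgroup.le_normalizer.trans hN)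
  have hk : (⊤ : Subgroup C) ≤ τ.ker := htop.ge.trans (sup_le hN le_rfl)
  rw [top_le_iff.1 hk, Subgroup.index_top] at hMidx
  omega

/-- The centralizer of an element of order three or five of the centralizer of the involution. -/
theorem Setup.prime_not (S : Setup G) {p : ℕ} (hp : p.Prime) (h7le : 7 ≤ p) (h49 : ¬ p * p ∣ Nat.card G)
    {a : Fin 4} (ha : a ≠ 0) : ¬ p ∣ Nat.card (centralizer ({S.φ (1, rep a)} : Set G)) := by
  classical
  intro h7
  have : Fact p.Prime := ⟨hp⟩
  have : Fact (Nat.Prime 2) := ⟨Nat.prime_two⟩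
  set r := S.φ (1, rep a) with hr
  let C := centralizer ({r} : Set G)
  set t := S.φ zc with ht
  obtain ⟨w, hww, hw1, hwr, -, -⟩ := reflection a ha
  set s := S.φ (1, w) with hs
  have htt : t * t = 1 := S.tt
  have hss : s * s = 1 := by rw [hs, ← map_mul, show ((1, w) : K) * (1, w) = 1 from Prod.ext (mul_one 1) hww, map_one]
  have hts : t * s = s * t := by rw [ht, hs, ← map_mul, ← map_mul, zc_comm]
  have htr : t * r = r * t := by rw [ht, hr, ← map_mul, ← map_mul, zc_comm]
  have hsr : s * r * s⁻¹ = r⁻¹ := by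
    rw [hs, hr, ← map_inv, ← map_mul, ← map_mul, ← map_inv]
    congr 1
    exact Prod.ext (by simp) hwr
  have htC : t ∈ C := mem_centralizer_singleton_iff.2 htr
  have hC2 : 2 ∣ Nat.card C := by
    have h := orderOf_dvd_natCard (⟨t, htC⟩ : C)
    rwa [Subgroup.orderOf_mk, orderOf_eq_prime (by rw [pow_two, htt]) S.t_ne] at h
  have hC4 : ¬ 4 ∣ Nat.card C := by
    intro h4
    obtain ⟨P, hP⟩ := (IsPGroup.of_card (n := 1) (by
      rw [Nat.card_zpowers, Subgroup.orderOf_mk, orderOf_eq_prime (by rw [pow_two, htt]) S.t_ne, pow_one]) :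
      IsPGroup 2 (zpowers (⟨t, htC⟩ : C))).exists_le_sylow
    have hd := P.pow_dvd_card_of_pow_dvd_card (n := 2) h4
    have hC8 : ∀ x : G, x * t = t * x → x * r = r * x → (∃ j : ℕ, orderOf x = 2 ^ j) → x = 1 ∨ x = t := by
      intro x hxt hxr ⟨j, hj⟩
      obtain ⟨k, hk⟩ := S.exists_pre hxt
      rw [← hk, orderOf_injective S.φ S.inj] at hj
      have h8 : k ^ 8 = 1 := by
        have hdvd : orderOf k ∣ 120 := card_K ▸ orderOf_dvd_card
        refine orderOf_dvd_iff_pow_eq_one.1 ?_
        rw [hj] at hdvd ⊢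
        have : j ≤ 3 := by
          by_contra hc
          exact absurd ((pow_dvd_pow 2 (show 4 ≤ j by omega)).trans hdvd) (by norm_num)
        exact pow_dvd_pow 2 this
      have h22 : k * k = 1 := by
        refine Prod.ext ?_ (two_comm k.2 k.2 (congrArg Prod.snd h8) (congrArg Prod.snd h8) (by
          have := congrArg Prod.snd h8
          simp only [Prod.pow_snd, Prod.snd_one] at this ⊢
          rw [← pow_two, ← pow_mul, mul_comm, pow_mul, this, one_pow])).2
        rcases fst_cases k.1 with e | e <;> simp only [Prod.fst_mul, Prod.fst_one, e] <;> rfl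
      have hkr : k * (1, rep a) = (1, rep a) * k := S.inj (by rw [map_mul, map_mul, hk, ← hr]; exact hxr)
      rcases small_cent a ha k (by rw [h22, one_mul]) hkr with e | e
      · exact Or.inl (by rw [← hk, e, map_one])
      · exact Or.inr (by rw [← hk, e])
    have hord : ∀ x ∈ (P : Subgroup C), ∃ j : ℕ, orderOf (x : G) = 2 ^ j := by
      intro x hx
      obtain ⟨j, hj⟩ := (IsPGroup.iff_orderOf.1 P.2) ⟨x, hx⟩
      rw [Subgroup.orderOf_mk, ← Subgroup.orderOf_coe] at hj
      exact ⟨j, hj⟩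
    have hPt : (⟨t, htC⟩ : C) ∈ (P : Subgroup C) := hP (mem_zpowers _)
    have : Nontrivial (P : Subgroup C) := by
      refine ⟨⟨1, ⟨⟨t, htC⟩, hPt⟩, fun e => ?_⟩⟩
      exact S.t_ne (congrArg (fun z : (P : Subgroup C) => ((z : C) : G)) e).symm
    obtain ⟨z, hz, hzne⟩ := (Subgroup.nontrivial_iff_exists_ne_one _).1 P.2.center_nontrivial
    have hzt : ((z : C) : G) = t := by
      refine (hC8 _ ?_ (mem_centralizer_singleton_iff.1 (z : C).2) (hord _ z.2)).resolve_left fun e => hzne ?_
      · exact congrArg (fun w : (P : Subgroup C) => ((w : C) : G)) ((Subgroup.mem_center_iff.1 hz) ⟨⟨t, htC⟩, hPt⟩).symm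
      · exact Subtype.ext (Subtype.ext e)
    have hcomm : ∀ x ∈ (P : Subgroup C), (x : G) = 1 ∨ (x : G) = t := by
      intro x hx
      refine hC8 _ ?_ (mem_centralizer_singleton_iff.1 x.2) (hord x hx)
      rw [← hzt]
      exact congrArg (fun w : (P : Subgroup C) => ((w : C) : G)) ((Subgroup.mem_center_iff.1 hz) ⟨x, hx⟩)
    have hle : Nat.card (P : Subgroup C) ≤ Nat.card Bool := by
      refine Nat.card_le_card_of_injective (fun x => decide (((x : C) : G) = 1)) fun x y hxy => ?_
      have hxy' := decide_eq_decide.1 hxy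
      rcases hcomm x x.2 with e | e <;> rcases hcomm y y.2 with e' | e'
      · exact Subtype.ext (Subtype.ext (e.trans e'.symm))
      · exact absurd (e'.symm.trans (hxy'.1 e)) S.t_ne
      · exact absurd (e.symm.trans (hxy'.2 e')) S.t_ne
      · exact Subtype.ext (Subtype.ext (e.trans e'.symm))
    have : 4 ≤ Nat.card (P : Subgroup C) := Nat.le_of_dvd Nat.card_pos (by simpa using hd)
    simp at hle
    omega
  -- the subgroups of order seven
  let T := {Q : Subgroup G // Q ≤ C ∧ Nat.card Q = p}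
  have hfac : p ^ ((Nat.card C).factorization p) = p := by
    have h1 : (Nat.card C).factorization p = 1 := by
      apply le_antisymm
      · by_contra hc
        exact h49 (dvd_trans (dvd_trans (by rw [← pow_two]; exact pow_dvd_pow p (show 2 ≤ (Nat.card C).factorization p by omega))
          (Nat.ordProj_dvd _ _)) (Subgroup.card_subgroup_dvd_card C))
      · exact (Nat.Prime.dvd_iff_one_le_factorization hp Nat.card_pos.ne').1 h7
    rw [h1, pow_one]
  let e : Sylow p C ≃ T :=
    { toFun := fun Q => ⟨(Q : Subgroup C).map C.subtype, Subgroup.map_subtype_le _, by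
        rw [Subgroup.card_map_of_injective C.subtype_injective, Q.card_eq_multiplicity, hfac]⟩
      invFun := fun Q => Sylow.ofCard (Q.1.subgroupOf C) (by
        rw [Nat.card_congr (Subgroup.subgroupOfEquivOfLe Q.2.1).toEquiv, Q.2.2, hfac])
      left_inv := fun Q => Sylow.ext (by
        rw [Sylow.coe_ofCard]
        exact Subgroup.comap_map_eq_self_of_injective C.subtype_injective _)
      right_inv := fun Q => Subtype.ext (by
        simp only [Sylow.coe_ofCard]
        exact Subgroup.map_subgroupOf_eq_of_le Q.2.1) }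
  have := Fintype.ofFinite T
  have hodd : ¬ 2 ∣ Fintype.card T := by
    rw [← Nat.card_eq_fintype_card, ← Nat.card_congr e]
    exact odd_sylow hC2 hC4 (by omega)
  have hcl : ∀ x : G, x * x = 1 → (x * r * x⁻¹ = r ∨ x * r * x⁻¹ = r⁻¹) → ∀ c ∈ C, x * c * x⁻¹ ∈ C := by
    intro x hxx hx c hc
    rw [mem_centralizer_singleton_iff] at hc ⊢
    have hcr : c * r⁻¹ = r⁻¹ * c := (Commute.inv_right (show Commute c r from hc)).eq
    have hxi : x⁻¹ = x := inv_eq_of_mul_eq_one_right hxx
    obtain ⟨r', hr', hcr'⟩ : ∃ r', x * r' * x⁻¹ = r ∧ c * r' = r' * c := by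
      rcases hx with hx | hx
      · exact ⟨r, hx, hc⟩
      · exact ⟨r⁻¹, by rw [show x * r⁻¹ * x⁻¹ = (x * r * x⁻¹)⁻¹ by group, hx, inv_inv], hcr⟩
    rw [← hr']
    calc x * c * x⁻¹ * (x * r' * x⁻¹) = x * (c * r') * x⁻¹ := by group
      _ = x * r' * x⁻¹ * (x * c * x⁻¹) := by rw [hcr']; group
  let act : (x : G) → x * x = 1 → (x * r * x⁻¹ = r ∨ x * r * x⁻¹ = r⁻¹) → T → T := fun x hxx hx Q =>
    ⟨Q.1.map (MulAut.conj x).toMonoidHom, by
      rintro _ ⟨c, hc, rfl⟩
      exact hcl x hxx hx c (Q.2.1 hc), by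
      rw [Subgroup.card_map_of_injective (MulAut.conj x).injective, Q.2.2]⟩
  have hact : ∀ (x y : G) (K : Subgroup G), (K.map (MulAut.conj x).toMonoidHom).map (MulAut.conj y).toMonoidHom =
      K.map (MulAut.conj (y * x)).toMonoidHom := fun x y K => by
    rw [Subgroup.map_map, map_mul]; rfl
  have hone : ∀ K : Subgroup G, K.map (MulAut.conj (1 : G)).toMonoidHom = K := fun K => by
    rw [map_one]; exact K.map_id
  have hxt : t * r * t⁻¹ = r ∨ t * r * t⁻¹ = r⁻¹ := Or.inl (by rw [htr]; group)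
  obtain ⟨⟨Q, hQC, hQ7⟩, hft, hfs⟩ := common_fixed hodd (act t htt hxt) (act s hss (Or.inr hsr))
    (fun Q => Subtype.ext (by show (_ : Subgroup G).map _ = _; rw [hact, htt, hone]))
    (fun Q => Subtype.ext (by show (_ : Subgroup G).map _ = _; rw [hact, hss, hone]))
    (fun Q => Subtype.ext (by
      show (_ : Subgroup G).map _ = (_ : Subgroup G).map _
      rw [hact, hact, hts]))
  have hcyc : IsCyclic Q := isCyclic_of_prime_card hQ7
  obtain ⟨⟨y, hy⟩, hgen⟩ := hcyc.exists_generator
  have hy7 : orderOf y = p := by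
    rw [← Subgroup.orderOf_mk y hy, orderOf_eq_card_of_forall_mem_zpowers hgen, hQ7]
  have hy' : y ^ p = 1 := hy7 ▸ pow_orderOf_eq_one y
  have hinv : ∀ x : G, x * x = 1 → Q.map (MulAut.conj x).toMonoidHom = Q →
      x * y * x⁻¹ = y ∨ x * y * x⁻¹ = y⁻¹ := by
    intro x hxx hx
    have hm : x * y * x⁻¹ ∈ Q := hx ▸ ⟨y, hy, rfl⟩
    obtain ⟨i, hi⟩ := (mem_powers_iff_mem_zpowers).2 (hgen ⟨_, hm⟩)
    have hi' : y ^ i = x * y * x⁻¹ := congrArg Subtype.val hi
    have h2 : y ^ (i * i) = y := by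
      rw [pow_mul, hi', conj_pow, hi']
      calc x * (x * y * x⁻¹) * x⁻¹ = (x * x) * y * (x * x)⁻¹ := by group
        _ = y := by rw [hxx]; group
    have hmod : (i : ℤ) * i ≡ 1 [ZMOD p] := by
      have := (pow_inj_mod (x := y) (n := i * i) (m := 1)).1 (by rw [h2, pow_one])
      rw [hy7] at this
      have h := Int.natCast_modEq_iff.2 (this : i * i ≡ 1 [MOD p])
      push_cast at h
      exact h
    have hd : (p : ℤ) ∣ ((i : ℤ) - 1) * ((i : ℤ) + 1) := by
      have h := Int.ModEq.dvd hmod.symm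
      rwa [show (i : ℤ) * i - 1 = ((i : ℤ) - 1) * ((i : ℤ) + 1) by ring] at h
    rcases (Nat.prime_iff_prime_int.1 hp).dvd_or_dvd hd with h | h
    · left
      have e : y ^ ((i : ℤ) - 1) = 1 := orderOf_dvd_iff_zpow_eq_one.1 (hy7.symm ▸ h)
      rw [zpow_sub, zpow_natCast, zpow_one, mul_inv_eq_one] at e
      rw [← hi', e]
    · right
      have e : y ^ ((i : ℤ) + 1) = 1 := orderOf_dvd_iff_zpow_eq_one.1 (hy7.symm ▸ h)
      rw [zpow_add, zpow_natCast, zpow_one] at e
      rw [← hi', eq_inv_of_mul_eq_one_left e]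
  have hkill : ∀ x : G, x * x = 1 → x ≠ 1 → x * y * x⁻¹ = y → False := by
    intro x hxx hx1 hxy
    obtain ⟨g, hg⟩ := isConj_iff.1 (S.conj x hxx hx1)
    have hm : g⁻¹ * y * g ∈ centralizer ({t} : Set G) := by
      rw [mem_centralizer_singleton_iff, show t = g⁻¹ * x * g by rw [← hg, ← ht]; group]
      have hc : y * x = x * y := by
        calc y * x = x * y * x⁻¹ * x := by rw [hxy]
          _ = x * y := by group
      calc g⁻¹ * y * g * (g⁻¹ * x * g) = g⁻¹ * (y * x) * g := by group
        _ = g⁻¹ * x * g * (g⁻¹ * y * g) := by rw [hc]; group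
    have h := orderOf_dvd_natCard (⟨_, hm⟩ : centralizer ({t} : Set G))
    rw [Subgroup.orderOf_mk, S.card_cent,
      show g⁻¹ * y * g = (MulAut.conj g⁻¹).toMonoidHom y by simp,
      orderOf_injective (MulAut.conj g⁻¹).toMonoidHom (MulAut.conj g⁻¹).injective, hy7] at h
    rcases (show p = 7 ∨ 7 < p by omega) with e | e
    · subst e; norm_num at h
    · have h120 : p ∣ 2 ^ 3 * (3 * 5) := by norm_num; exact h
      rcases (Nat.Prime.dvd_mul hp).1 h120 with h' | h'
      · have := Nat.le_of_dvd (by norm_num) (hp.dvd_of_dvd_pow h'); omega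
      · rcases (Nat.Prime.dvd_mul hp).1 h' with h'' | h'' <;> have := Nat.le_of_dvd (by norm_num) h'' <;> omega
  rcases hinv t htt (congrArg Subtype.val hft) with h | h
  · exact hkill t htt S.t_ne h
  rcases hinv s hss (congrArg Subtype.val hfs) with h' | h'
  · exact hkill s hss (fun e => hw1 (congrArg Prod.snd (S.inj (e.trans S.φ.map_one.symm) : ((1, w) : K) = 1))) h'
  refine hkill (t * s) ?_ ?_ ?_
  · calc t * s * (t * s) = t * (s * t) * s := by group
      _ = t * t * (s * s) := by rw [← hts]; group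
      _ = 1 := by rw [htt, hss, one_mul]
  · intro e
    rw [ht, hs, ← map_mul] at e
    have e' := congrArg Prod.fst (S.inj (e.trans S.φ.map_one.symm) : zc * ((1, w) : K) = 1)
    simp [zc] at e'
  · calc t * s * y * (t * s)⁻¹ = t * (s * y * s⁻¹) * t⁻¹ := by group
      _ = (t * y * t⁻¹)⁻¹ := by rw [h']; group
      _ = y := by rw [h, inv_inv]

theorem Setup.seven_not (S : Setup G) (h49 : ¬ 49 ∣ Nat.card G) {a : Fin 4} (ha : a ≠ 0) :
    ¬ 7 ∣ Nat.card (centralizer ({S.φ (1, rep a)} : Set G)) :=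
  S.prime_not (by norm_num) le_rfl h49 ha

end Cfsg.Lib.JankoOne
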