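import Cfsg.Agent.JankoOne.Cases
import Cfsg.Agent.JankoOne.SevenCentral
import Cfsg.Agent.Chars.DefectZero

/-!
The order `189000` is impossible: an element of order seven.
-/

set_option autoImplicit false
set_option linter.unusedSectionVars false
set_option maxRecDepth 10000

namespace Cfsg.Lib.JankoOne

open Subgroup Cfsg.Lib.Chars
open scoped ComplexConjugate

universe u

variable {G : Type u} [Group G] [Finite G] {S : Setup G}

theorem divisors_check : ((List.range 3376).all fun c =>
    decide (c % 7 ≠ 6) || decide (¬ c ∣ 3375) || decide (c = 27) || decide (c = 125)) = true := by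
  decide +kernel

/-- A rational value at an element of prime order and the degree. -/
theorem value_rat (χ : Cfsg.IrrCharacter G) (hfix : ∀ σ : ℂ ≃+* ℂ, galIrr σ χ = χ) {p : ℕ} [Fact p.Prime] {y : G}
    (hy : orderOf y = p) :
    ∃ X : ℤ, (χ : G → ℂ) y = (X : ℂ) ∧ (p : ℤ) ∣ (deg (χ : G → ℂ) : ℤ) - X ∧ X.natAbs ≤ deg (χ : G → ℂ) := by
  classical
  have : NeZero p := ⟨(Fact.out : p.Prime).ne_zero⟩
  have hc := isCharacter_of_irr χ.2
  have hfix' : ∀ (σ : ℂ ≃+* ℂ) (g : G), σ ((χ : G → ℂ) g) = (χ : G → ℂ) g := fun σ g =>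
    congrFun (congrArg Subtype.val (hfix σ)) g
  obtain ⟨q, hq⟩ := rat_of_galConj_fixed (IsCharacter.mem_cycField hc (dvd_of_eq hy))
    (fun σ k _ _ => hfix' σ y)
  obtain ⟨X, hX⟩ : ∃ X : ℤ, (q : ℚ) = (X : ℚ) := by
    have hi : IsIntegral ℤ ((q : ℚ) : ℂ) := hq ▸ IsCharacter.isIntegral hc y
    have hi' : IsIntegral ℤ q := (isIntegral_algHom_iff (algebraMap ℚ ℂ).toIntAlgHom
      (algebraMap ℚ ℂ).injective).1 hi
    obtain ⟨X, hX⟩ := IsIntegrallyClosed.isIntegral_iff.1 hi'
    exact ⟨X, by simpa using hX.symm⟩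
  have hXy : (χ : G → ℂ) y = (X : ℂ) := by rw [hq, hX]; push_cast; rfl
  refine ⟨X, hXy, ?_, ?_⟩
  · let ι : Multiplicative (ZMod p) →* G :=
      { toFun := fun x => y ^ (Multiplicative.toAdd x).val
        map_one' := by simp
        map_mul' := fun a b => by
          simp only [toAdd_mul, ZMod.val_add]
          rw [← pow_add, ← pow_eq_pow_mod _ (hy ▸ pow_orderOf_eq_one y)] }
    have hv : ∀ x, (χ : G → ℂ) (ι x) = if x = 1 then (deg (χ : G → ℂ) : ℂ) else (X : ℂ) := by
      intro x
      split_ifs with hx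
      · rw [hx, map_one, irr_apply_one_eq_deg]
      · have hk : (Multiplicative.toAdd x).val.Coprime p := by
          refine Nat.Coprime.symm ((Nat.Prime.coprime_iff_not_dvd Fact.out).2 fun hd => hx ?_)
          have h0 : (Multiplicative.toAdd x).val = 0 := Nat.eq_zero_of_dvd_of_lt hd (ZMod.val_lt _)
          exact Multiplicative.toAdd.injective (((ZMod.val_eq_zero _).1 h0).trans toAdd_one.symm)
        obtain ⟨σ, hσ⟩ := exists_galConj_auto (m := p) hk
        show (χ : G → ℂ) (y ^ (Multiplicative.toAdd x).val) = _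
        rw [← hσ.apply_character hc (dvd_of_eq hy), hfix', hXy]
    obtain ⟨k, hk⟩ := IsGeneralizedCharacter.exists_mult
      (IsCharacter.isGeneralized (IsCharacter.comp_hom hc ι)) (isIrrCharacter_one (G := Multiplicative (ZMod p)))
    rw [classInner_def] at hk
    simp only [map_one, mul_one, hv] at hk
    rw [Finset.sum_ite, Finset.filter_eq', Finset.filter_ne', if_pos (Finset.mem_univ _), Finset.sum_singleton,
      Finset.sum_const, nsmul_eq_mul, Finset.card_erase_of_mem (Finset.mem_univ _), Finset.card_univ,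
      Fintype.card_multiplicative, ZMod.card, Nat.card_eq_fintype_card, Fintype.card_multiplicative, ZMod.card] at hk
    refine ⟨k - X, ?_⟩
    apply Int.cast_injective (α := ℂ)
    have hp0 : (p : ℂ) ≠ 0 := Nat.cast_ne_zero.2 (Fact.out : p.Prime).ne_zero
    rw [Nat.cast_sub (Fact.out : p.Prime).one_le, inv_mul_eq_iff_eq_mul₀ hp0] at hk
    push_cast at hk ⊢
    linear_combination hk
  · have h := IsCharacter.norm_le hc y
    rw [hXy, irr_apply_one_eq_deg] at h
    simp only [Complex.norm_intCast, Complex.natCast_re] at h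
    have : (X.natAbs : ℝ) ≤ (deg (χ : G → ℂ) : ℝ) := by
      refine le_trans (le_of_eq ?_) h
      rw [Nat.cast_natAbs, Int.cast_abs]
    exact_mod_cast this

/-- The number of pairs of involutions with product an element of order seven. -/
theorem count_seven (hord : Nat.card G = 189000) {y : G} (hy : orderOf y = 7) (S : Setup G) :
    let K := Nat.card {p : G × G // IsConj (S.φ zc) p.1 ∧ IsConj (S.φ zc) p.2 ∧ p.1 * p.2 = y}
    K = 0 ∨ (Odd K ∧ ∃ c : ℕ, K = 7 * c ∧ c ∣ 3375 ∧ ∃ b : ℕ, Nat.card (centralizer ({y} : Set G)) = K * b) := by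
  classical
  intro K
  set t := S.φ zc with ht
  by_cases h0 : K = 0
  · exact Or.inl h0
  right
  obtain ⟨⟨⟨a, b⟩, ha, hb, hab⟩⟩ := (Nat.card_ne_zero.1 h0).1
  obtain ⟨haa, ha1⟩ := (S.conj_iff_inv _).1 ha
  obtain ⟨hbb, hb1⟩ := (S.conj_iff_inv _).1 hb
  simp only at hab
  let C := centralizer ({y} : Set G)
  have hay : a * y * a⁻¹ = y⁻¹ := by
    rw [← hab, mul_inv_rev, inv_eq_of_mul_eq_one_right hbb, inv_eq_of_mul_eq_one_right haa]
    calc a * (a * b) * a = (a * a) * b * a := by group
      _ = b * a := by rw [haa, one_mul]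
  have hconjC : ∀ x : G, x * y = y * x → (a * x * a⁻¹) * y = y * (a * x * a⁻¹) := by
    intro x hx
    have hc : x * y⁻¹ = y⁻¹ * x := (Commute.inv_right (show Commute x y from hx)).eq
    have hy' : y = a * y⁻¹ * a⁻¹ := by
      rw [show a * y⁻¹ * a⁻¹ = (a * y * a⁻¹)⁻¹ by group, hay, inv_inv]
    conv_lhs => rw [hy']
    conv_rhs => rw [hy']
    calc a * x * a⁻¹ * (a * y⁻¹ * a⁻¹) = a * (x * y⁻¹) * a⁻¹ := by group
      _ = a * y⁻¹ * a⁻¹ * (a * x * a⁻¹) := by rw [hc]; group
  have hCodd : Odd (Nat.card C) := by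
    rw [Nat.odd_iff, ← Nat.two_dvd_ne_zero]
    intro h2
    have : Fact (Nat.Prime 2) := ⟨Nat.prime_two⟩
    obtain ⟨⟨x, hx⟩, hx2⟩ := exists_prime_orderOf_dvd_card' 2 h2
    rw [Subgroup.orderOf_mk] at hx2
    have hxx : x * x = 1 := by rw [← pow_two, ← hx2, pow_orderOf_eq_one]
    have hx1 : x ≠ 1 := fun e => by simp [e] at hx2
    obtain ⟨g, hg⟩ := isConj_iff.1 (S.conj x hxx hx1)
    have hm : g⁻¹ * y * g ∈ centralizer ({t} : Set G) := by
      rw [mem_centralizer_singleton_iff, show t = g⁻¹ * x * g by rw [← hg, ← ht]; group]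
      have hc := (mem_centralizer_singleton_iff.1 hx).symm
      calc g⁻¹ * y * g * (g⁻¹ * x * g) = g⁻¹ * (y * x) * g := by group
        _ = g⁻¹ * x * g * (g⁻¹ * y * g) := by rw [hc]; group
    have h := orderOf_dvd_natCard (⟨_, hm⟩ : centralizer ({t} : Set G))
    rw [Subgroup.orderOf_mk, S.card_cent, show g⁻¹ * y * g = (MulAut.conj g⁻¹).toMonoidHom y by simp,
      orderOf_injective (MulAut.conj g⁻¹).toMonoidHom (MulAut.conj g⁻¹).injective, hy] at h
    norm_num at h
  let St : Subgroup C := (centralizer ({a} : Set G)).subgroupOf C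
  let F : C ⧸ St → {p : G × G // IsConj t p.1 ∧ IsConj t p.2 ∧ p.1 * p.2 = y} :=
    Quotient.lift (fun d : C => ⟨((d : G) * a * (d : G)⁻¹, (d : G) * b * (d : G)⁻¹),
      ha.trans (isConj_iff.2 ⟨d, rfl⟩), hb.trans (isConj_iff.2 ⟨d, rfl⟩), by
        have hd := mem_centralizer_singleton_iff.1 d.2
        calc (d : G) * a * (d : G)⁻¹ * ((d : G) * b * (d : G)⁻¹) = (d : G) * (a * b) * (d : G)⁻¹ := by group
          _ = y := by rw [hab, hd]; group⟩) (by
      intro d e hde
      have h := QuotientGroup.leftRel_apply.1 hde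
      rw [Subgroup.mem_subgroupOf, mem_centralizer_singleton_iff] at h
      push_cast at h
      have hy1 := mem_centralizer_singleton_iff.1 d.2
      have hy2 := mem_centralizer_singleton_iff.1 e.2
      have h1 : (d : G) * a * (d : G)⁻¹ = (e : G) * a * (e : G)⁻¹ := by
        calc (d : G) * a * (d : G)⁻¹ = (d : G) * (a * ((d : G)⁻¹ * e)) * (e : G)⁻¹ := by group
          _ = (d : G) * (((d : G)⁻¹ * e) * a) * (e : G)⁻¹ := by rw [h]
          _ = _ := by group
      have hb' : b = a * y := by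
        rw [← hab, ← mul_assoc, haa, one_mul]
      refine Subtype.ext (Prod.ext h1 ?_)
      show (d : G) * b * (d : G)⁻¹ = (e : G) * b * (e : G)⁻¹
      rw [hb']
      calc (d : G) * (a * y) * (d : G)⁻¹ = (d : G) * a * (d : G)⁻¹ * ((d : G) * y * (d : G)⁻¹) := by group
        _ = (e : G) * a * (e : G)⁻¹ * ((e : G) * y * (e : G)⁻¹) := by rw [h1, hy1, hy2]; group
        _ = _ := by group)
  have hF : Function.Bijective F := by
    constructor
    · rintro ⟨d⟩ ⟨e⟩ hde
      have h : (d : G) * a * (d : G)⁻¹ = (e : G) * a * (e : G)⁻¹ := congrArg (fun z => z.1.1) hde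
      refine Quotient.sound (QuotientGroup.leftRel_apply.2 ?_)
      rw [Subgroup.mem_subgroupOf, mem_centralizer_singleton_iff]
      push_cast
      calc (d : G)⁻¹ * e * a = (d : G)⁻¹ * ((e : G) * a * (e : G)⁻¹) * e := by group
        _ = a * ((d : G)⁻¹ * e) := by rw [← h]; group
    · rintro ⟨⟨x, z⟩, hx, hz, hxz⟩
      obtain ⟨hxx, -⟩ := (S.conj_iff_inv _).1 hx
      obtain ⟨hzz, -⟩ := (S.conj_iff_inv _).1 hz
      simp only at hxz
      have hxy : x * y * x⁻¹ = y⁻¹ := by
        rw [← hxz, mul_inv_rev, inv_eq_of_mul_eq_one_right hzz, inv_eq_of_mul_eq_one_right hxx]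
        calc x * (x * z) * x = (x * x) * z * x := by group
          _ = z * x := by rw [hxx, one_mul]
      have hcC : a * x ∈ C := by
        rw [mem_centralizer_singleton_iff]
        calc a * x * y = a * (x * y * x⁻¹) * x := by group
          _ = (a * y * a⁻¹)⁻¹ * (a * x) := by rw [hxy]; group
          _ = y * (a * x) := by rw [hay, inv_inv]
      -- a square root of the product
      have hcodd : Odd (orderOf (a * x)) := by
        rw [← Subgroup.orderOf_mk (a * x) hcC]
        exact Odd.of_dvd_nat hCodd (orderOf_dvd_natCard _)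
      obtain ⟨k, hk⟩ := hcodd
      let w : G := (a * x) ^ k
      have hw : w * w * (a * x) = 1 := by
        show (a * x) ^ k * (a * x) ^ k * (a * x) = 1
        rw [← pow_add, ← pow_succ, ← two_mul, ← hk, pow_orderOf_eq_one]
      have hinv : a * w * a⁻¹ = w⁻¹ := by
        show a * (a * x) ^ k * a⁻¹ = ((a * x) ^ k)⁻¹
        rw [← conj_pow, ← inv_pow, mul_inv_rev, inv_eq_of_mul_eq_one_right hxx, inv_eq_of_mul_eq_one_right haa]
        congr 1
        calc a * (a * x) * a = (a * a) * x * a := by group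
          _ = x * a := by rw [haa, one_mul]
      refine ⟨QuotientGroup.mk (⟨w, Subgroup.pow_mem _ hcC k⟩ : C), ?_⟩
      have h1 : w * a * w⁻¹ = x := by
        calc w * a * w⁻¹ = w * (a * w⁻¹ * a⁻¹) * a := by group
          _ = w * w * a := by rw [show a * w⁻¹ * a⁻¹ = (a * w * a⁻¹)⁻¹ by group, hinv, inv_inv]
          _ = (w * w * (a * x)) * x⁻¹ := by group
          _ = x := by rw [hw, one_mul, inv_eq_of_mul_eq_one_right hxx]
      refine Subtype.ext (Prod.ext h1 ?_)
      show w * b * w⁻¹ = z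
      have hwy : w * y = y * w := mem_centralizer_singleton_iff.1 (Subgroup.pow_mem _ hcC k)
      calc w * b * w⁻¹ = w * (a * (a * b)) * w⁻¹ := by rw [← mul_assoc a, haa, one_mul]
        _ = w * a * w⁻¹ * (w * (a * b) * w⁻¹) := by group
        _ = x * y := by rw [h1, hab, hwy, mul_inv_cancel_right]
        _ = z := by rw [← hxz, ← mul_assoc, hxx, one_mul]
  have hK : K = St.index := (Nat.card_congr (Equiv.ofBijective F hF)).symm
  have hmul := Subgroup.card_mul_index St
  rw [← hK] at hmul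
  have hKodd : Odd K := Odd.of_dvd_nat hCodd ⟨Nat.card St, by rw [← hmul, mul_comm]⟩
  have h7 : ¬ 7 ∣ Nat.card St := by
    intro h
    obtain ⟨g, hg⟩ := isConj_iff.1 ha
    have e1 : Nat.card St ∣ Nat.card (centralizer ({a} : Set G)) := by
      have h := Nat.card_congr (Subgroup.subgroupOfEquivOfLe (inf_le_right : centralizer ({a} : Set G) ⊓ C ≤ C)).toEquiv
      rw [Subgroup.inf_subgroupOf_right] at h
      show Nat.card ((centralizer ({a} : Set G)).subgroupOf C) ∣ _
      rw [h]
      exact Subgroup.card_dvd_of_le inf_le_left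
    have e2 : Nat.card (centralizer ({a} : Set G)) = 120 := by
      have h1 := card_isConj_mul a
      have h2 := card_isConj_mul t
      rw [ht, S.card_cent, ← ht] at h2
      rw [Nat.card_congr (Equiv.subtypeEquivRight fun x => (⟨fun hx => ha.trans hx, fun hx => ha.symm.trans hx⟩ :
        IsConj a x ↔ IsConj t x))] at h1
      exact Nat.eq_of_mul_eq_mul_left (card_isConj_pos t) (h1.trans h2.symm)
    have := h.trans e1
    rw [e2] at this
    norm_num at this
  have hC7 : 7 ∣ Nat.card C := by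
    have h := orderOf_dvd_natCard (⟨y, mem_centralizer_singleton_iff.2 rfl⟩ : C)
    rwa [Subgroup.orderOf_mk, hy] at h
  obtain ⟨c, hc⟩ : 7 ∣ K := by
    rw [← hmul] at hC7
    exact ((Nat.Prime.dvd_mul (by norm_num)).1 hC7).resolve_left h7
  refine ⟨hKodd, c, hc, ?_, Nat.card St, by rw [mul_comm]; exact hmul.symm⟩
  have hd : 7 * c ∣ 189000 := by
    rw [← hc, ← hord]
    exact dvd_trans ⟨Nat.card St, by rw [← hmul, mul_comm]⟩ (Subgroup.card_subgroup_dvd_card C)
  have hc2 : c ∣ 8 * 3375 := Nat.dvd_of_mul_dvd_mul_left (by norm_num : 0 < 7) hd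
  have hcodd : Odd c := by
    rw [hc] at hKodd
    exact (Nat.odd_mul.1 hKodd).2
  refine Nat.Coprime.dvd_of_dvd_mul_left ?_ hc2
  rw [show (8 : ℕ) = 2 ^ 3 from rfl]
  exact Nat.Coprime.pow_right 3 (Nat.coprime_two_right.2 hcodd)

end Cfsg.Lib.JankoOne
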