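import Cfsg.Agent.JankoOne.LocalTable
import Cfsg.Prelude.Def_SporadicB

/-!
A simple group with a 2-central involution whose centralizer is `2 × A₅`: one class of involutions,
Sylow 2-subgroups of order eight.
-/

set_option autoImplicit false
set_option linter.unusedSectionVars false

namespace Cfsg.Lib.JankoOne

open Subgroup

universe u

variable {G : Type u} [Group G] [Finite G]

/-- The data. -/
structure Setup (G : Type u) [Group G] where
  φ : K →* G
  inj : Function.Injective φ
  cent : φ.range = centralizer ({φ zc} : Set G)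
  eight : 8 ∣ Nat.card G
  sixteen : ¬ 16 ∣ Nat.card G
  conj : ∀ x : G, x * x = 1 → x ≠ 1 → IsConj (φ zc) x

theorem orbit_odd (P : Sylow 2 G) [IsMulCommutative (P : Subgroup G)] {x : G} (hx : x ∈ (P : Subgroup G)) :
    Odd (Nat.card {y : G // y ∈ (P : Subgroup G) ∧ IsConj x y}) := by
  let N := normalizer ((P : Subgroup G) : Set G)
  let St : Subgroup N := (centralizer ({x} : Set G)).subgroupOf N
  have hconj : ∀ n : N, (n : G) * x * (n : G)⁻¹ ∈ (P : Subgroup G) := fun n =>
    (Subgroup.mem_normalizer_iff.1 n.2 x).1 hx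
  let F : N ⧸ St → {y : G // y ∈ (P : Subgroup G) ∧ IsConj x y} :=
    Quotient.lift (fun n : N => ⟨(n : G) * x * (n : G)⁻¹, hconj n, isConj_iff.2 ⟨n, rfl⟩⟩) (by
      intro a b hab
      have h := QuotientGroup.leftRel_apply.1 hab
      rw [Subgroup.mem_subgroupOf, mem_centralizer_singleton_iff] at h
      push_cast at h
      apply Subtype.ext
      show (a : G) * x * (a : G)⁻¹ = (b : G) * x * (b : G)⁻¹
      calc (a : G) * x * (a : G)⁻¹ = (a : G) * (x * ((a : G)⁻¹ * b)) * (b : G)⁻¹ := by group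
        _ = (a : G) * (((a : G)⁻¹ * b) * x) * (b : G)⁻¹ := by rw [h]
        _ = _ := by group)
  have hF : Function.Bijective F := by
    constructor
    · rintro ⟨a⟩ ⟨b⟩ hab
      have h : (a : G) * x * (a : G)⁻¹ = (b : G) * x * (b : G)⁻¹ := congrArg Subtype.val hab
      refine Quotient.sound (QuotientGroup.leftRel_apply.2 ?_)
      rw [Subgroup.mem_subgroupOf, mem_centralizer_singleton_iff]
      push_cast
      calc (a : G)⁻¹ * b * x = (a : G)⁻¹ * ((b : G) * x * (b : G)⁻¹) * b := by group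
        _ = x * ((a : G)⁻¹ * b) := by rw [← h]; group
    · rintro ⟨y, hy, hc⟩
      obtain ⟨g, hg⟩ := isConj_iff.1 hc
      obtain ⟨n, hn, e⟩ := P.conj_eq_normalizer_conj_of_mem x g⁻¹ hx (by rw [inv_inv, hg]; exact hy)
      exact ⟨QuotientGroup.mk (⟨n, hn⟩ : N)⁻¹, Subtype.ext (by
        show ((⟨n, hn⟩ : N)⁻¹ : N).1 * x * ((⟨n, hn⟩ : N)⁻¹ : N).1⁻¹ = y
        rw [← hg]
        simp only [InvMemClass.coe_inv, inv_inv]
        rw [← e, inv_inv])⟩
  rw [← Nat.card_congr (Equiv.ofBijective F hF)]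
  refine Odd.of_dvd_nat (Nat.odd_iff.2 (Nat.two_dvd_ne_zero.1 P.not_dvd_index)) ?_
  refine dvd_trans (Subgroup.index_dvd_of_le (H := (P : Subgroup G).subgroupOf N) fun z hz => ?_)
    (Subgroup.relIndex_dvd_index_of_le Subgroup.le_normalizer)
  rw [Subgroup.mem_subgroupOf] at hz ⊢
  rw [mem_centralizer_singleton_iff]
  exact congrArg Subtype.val (mul_comm' (⟨z, hz⟩ : (P : Subgroup G)) ⟨x, hx⟩)

/-- A nontrivial element of an abelian Sylow subgroup of a simple group is moved by the normalizer. -/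
theorem exists_moved [IsSimpleGroup G] (hG : ∃ a b : G, a * b ≠ b * a) (P : Sylow 2 G)
    [IsMulCommutative (P : Subgroup G)] {x : G} (hx : x ∈ (P : Subgroup G)) (hx1 : x ≠ 1) (hxx : x * x = 1) :
    ∃ y ∈ (P : Subgroup G), IsConj x y ∧ y ≠ x := by
  by_contra hcon
  push Not at hcon
  open scoped IsMulCommutative in
  let τ := MonoidHom.transfer (MonoidHom.id (P : Subgroup G))
  have key : ∀ (k : ℕ) (g₀ : G), g₀⁻¹ * x ^ k * g₀ ∈ (P : Subgroup G) → g₀⁻¹ * x ^ k * g₀ = x ^ k := by
    intro k g₀ h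
    rcases Nat.even_or_odd k with ⟨j, rfl⟩ | ⟨j, rfl⟩
    · rw [← two_mul, pow_mul, pow_two, hxx, one_pow]; group
    · rw [pow_succ, pow_mul, pow_two, hxx, one_pow, one_mul] at h ⊢
      exact hcon _ h (isConj_iff.2 ⟨g₀⁻¹, by rw [inv_inv]⟩)
  have hker : τ.ker = ⊤ := by
    rcases τ.normal_ker.eq_bot_or_eq_top with h | h
    · obtain ⟨a, b, hab⟩ := hG
      exact absurd (MonoidHom.ker_eq_bot_iff τ |>.1 h (by rw [map_mul, map_mul, mul_comm])) hab
    · exact h
  have h1 : τ x = 1 := MonoidHom.mem_ker.1 (hker ▸ Subgroup.mem_top x)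
  open scoped IsMulCommutative in
  rw [show τ x = _ from MonoidHom.transfer_eq_pow (MonoidHom.id (P : Subgroup G)) x key] at h1
  have h2 : x ^ (P : Subgroup G).index = 1 := congrArg Subtype.val h1
  obtain ⟨j, hj⟩ : Odd (P : Subgroup G).index := Nat.odd_iff.2 (Nat.two_dvd_ne_zero.1 P.not_dvd_index)
  rw [hj, pow_succ, pow_mul, pow_two, hxx, one_pow, one_mul] at h2
  exact hx1 h2

theorem odd_of_union {α : Type*} [Fintype α] [DecidableEq α] (p q : α → Prop) [DecidablePred p] [DecidablePred q]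
    (a : α) (h : ∀ x, q x ↔ x = a ∨ p x) (ha : ¬ p a) :
    (Finset.univ.filter q).card = (Finset.univ.filter p).card + 1 := by
  rw [← Finset.card_insert_of_notMem (a := a) (s := Finset.univ.filter p) (by simpa using ha)]
  congr 1
  ext x
  simp [h x]

/-- From the hypotheses to the data. -/
theorem exists_setup [IsSimpleGroup G] (t : G) (ht : Cfsg.IsTwoCentralInvolution t)
    (e : centralizer ({t} : Set G) ≃* K) : ∃ S : Setup G, S.φ zc = t := by
  classical
  obtain ⟨hord, P, htP, hcomm⟩ := ht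
  have ht1 : t ≠ 1 := fun h => by simp [h] at hord
  have htt : t * t = 1 := by rw [← pow_two, ← hord, pow_orderOf_eq_one]
  let C := centralizer ({t} : Set G)
  let φ : K →* G := C.subtype.comp e.symm.toMonoidHom
  have hφ : Function.Injective φ := fun a b h => e.symm.injective (Subtype.ext h)
  have hrange : φ.range = C := by
    ext x
    exact ⟨fun ⟨k, hk⟩ => hk ▸ (e.symm k).2, fun hx => ⟨e ⟨x, hx⟩, by simp [φ]⟩⟩
  -- the image of the central involution
  have hzt : φ zc = t := by
    have htC : t ∈ C := mem_centralizer_singleton_iff.2 rfl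
    obtain ⟨k, hk⟩ : ∃ k, φ k = t := by
      have : t ∈ φ.range := by rw [hrange]; exact htC
      exact this
    have hc : ∀ u : A, k * (1, u) = (1, u) * k := fun u => hφ (by
      rw [map_mul, map_mul, hk]
      exact (mem_centralizer_singleton_iff.1 (show φ (1, u) ∈ C from hrange ▸ ⟨_, rfl⟩)).symm)
    have hk1 : k ≠ 1 := fun h => ht1 (by rw [← hk, h, map_one])
    have hc2 : ∀ u : A, k.2 * u = u * k.2 := fun u => congrArg Prod.snd (hc u)
    have h2 : k.2 = 1 := by
      have : ∀ w : A, w * rE = rE * w → w * fE = fE * w → w = 1 := by decide +kernel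
      exact this _ (hc2 _) (hc2 _)
    rw [← hk]
    congr 1
    rcases fst_cases k.1 with h | h
    · exact absurd (Prod.ext h h2) hk1
    · exact Prod.ext h.symm h2.symm
  have hPC : (P : Subgroup G) ≤ C := fun x hx => mem_centralizer_singleton_iff.2 (hcomm x hx)
  have hcardC : Nat.card C = 120 := by rw [Nat.card_congr e.toEquiv, Nat.card_eq_fintype_card, card_K]
  obtain ⟨n, hn⟩ := P.2.exists_card_eq
  have hn3 : n = 3 := by
    have hd : 2 ^ n ∣ 120 := hn ▸ hcardC ▸ Subgroup.card_dvd_of_le hPC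
    have h3 : 2 ^ 3 ∣ Nat.card G := dvd_trans ⟨15, by rw [hcardC]; norm_num⟩ (Subgroup.card_subgroup_dvd_card C)
    have : Nat.card (P : Subgroup G) = 2 ^ (Nat.card G).factorization 2 := P.card_eq_multiplicity
    rw [hn] at this
    have hle := (Nat.Prime.pow_dvd_iff_le_factorization Nat.prime_two Nat.card_pos.ne').1 h3
    have := Nat.pow_right_injective le_rfl this
    have : n ≤ 3 := by
      by_contra hc
      exact absurd ((pow_dvd_pow 2 (show 4 ≤ n by omega)).trans hd) (by norm_num)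
    omega
  subst hn3
  have h8 : 8 ∣ Nat.card G := by
    have := Subgroup.card_subgroup_dvd_card (P : Subgroup G)
    rwa [hn] at this
  have h16 : ¬ 16 ∣ Nat.card G := by
    intro h
    apply P.not_dvd_index
    rw [← (P : Subgroup G).card_mul_index, hn] at h
    exact Nat.dvd_of_mul_dvd_mul_left (show 0 < 2 ^ 3 by norm_num) (show 2 ^ 3 * 2 ∣ _ from h)
  have hpow : ∀ k : K, φ k ∈ (P : Subgroup G) → k ^ 8 = 1 := fun k hk => hφ (by
    rw [map_pow, map_one]
    have h := orderOf_dvd_natCard (⟨φ k, hk⟩ : (P : Subgroup G))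
    rw [hn, Subgroup.orderOf_mk] at h
    exact orderOf_dvd_iff_pow_eq_one.1 h)
  have hpre : ∀ x ∈ (P : Subgroup G), ∃ k, φ k = x := fun x hx => by
    have : x ∈ φ.range := hrange ▸ hPC hx
    exact this
  have hpair : ∀ k l : K, φ k ∈ (P : Subgroup G) → φ l ∈ (P : Subgroup G) → k * l = l * k ∧ k * k = 1 := by
    intro k l hk hl
    have h := two_comm k.2 l.2 (congrArg Prod.snd (hpow k hk)) (congrArg Prod.snd (hpow l hl))
      (congrArg Prod.snd (hpow (k * l) (by rw [map_mul]; exact mul_mem hk hl)))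
    refine ⟨Prod.ext (mul_comm _ _) h.1, Prod.ext ?_ h.2⟩
    rcases fst_cases k.1 with e | e <;> simp only [Prod.fst_mul, Prod.fst_one, e] <;> decide
  have : IsMulCommutative (P : Subgroup G) := ⟨⟨fun a b => Subtype.ext (by
    obtain ⟨k, hk⟩ := hpre a a.2
    obtain ⟨l, hl⟩ := hpre b b.2
    show (a : G) * b = b * a
    rw [← hk, ← hl, ← map_mul, ← map_mul, (hpair k l (hk ▸ a.2) (hl ▸ b.2)).1])⟩⟩
  have hG : ∃ a b : G, a * b ≠ b * a :=
    ⟨φ (1, rE), φ (1, fE), fun h => noncomm (by
      have := hφ ((map_mul φ _ _).trans (h.trans (map_mul φ _ _).symm))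
      exact congrArg Prod.snd this)⟩
  -- classes inside `P`
  have hzP : φ zc ∈ (P : Subgroup G) := hzt.symm ▸ htP
  let Q : Finset K := Finset.univ.filter fun k => φ k ∈ (P : Subgroup G)
  have hQ : Q.card = 8 := by
    rw [show (8 : ℕ) = 2 ^ 3 from rfl, ← hn, ← Nat.card_eq_finsetCard]
    exact Nat.card_congr (Equiv.ofBijective (fun k => ⟨φ k.1, (Finset.mem_filter.1 k.2).2⟩)
      ⟨fun a b h => Subtype.ext (hφ (congrArg Subtype.val h :)), fun x => by
        obtain ⟨k, hk⟩ := hpre x x.2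
        exact ⟨⟨k, Finset.mem_filter.2 ⟨Finset.mem_univ _, hk ▸ x.2⟩⟩, Subtype.ext hk⟩⟩)
  let Q0 : Finset K := Q.filter fun k => k.1 = 1
  let Q1 : Finset K := Q.filter fun k => ¬ k.1 = 1
  have h01 : Q0.card + Q1.card = 8 := hQ ▸ Finset.card_filter_add_card_filter_not _
  have hQ01 : Q0.card = Q1.card := by
    refine Finset.card_bij' (fun k _ => zc * k) (fun k _ => zc * k) ?_ ?_ ?_ ?_
    · intro k hk
      simp only [Q0, Q1, Q, Finset.mem_filter, Finset.mem_univ, true_and] at hk ⊢
      refine ⟨by rw [map_mul]; exact mul_mem hzP hk.1, ?_⟩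
      rw [Prod.fst_mul, hk.2]; decide
    · intro k hk
      simp only [Q0, Q1, Q, Finset.mem_filter, Finset.mem_univ, true_and] at hk ⊢
      refine ⟨by rw [map_mul]; exact mul_mem hzP hk.1, ?_⟩
      rw [Prod.fst_mul, (fst_cases k.1).resolve_left hk.2]; decide
    · intro k _
      show zc * (zc * k) = k
      rw [← mul_assoc, zc_sq.1, one_mul]
    · intro k _
      show zc * (zc * k) = k
      rw [← mul_assoc, zc_sq.1, one_mul]
  -- conjugacy of involutions with the same first coordinate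
  have hAconj : ∀ k l : K, φ k ∈ (P : Subgroup G) → φ l ∈ (P : Subgroup G) → k.1 = l.1 → k.2 ≠ 1 → l.2 ≠ 1 →
      IsConj (φ k) (φ l) := by
    intro k l hk hl he hk2 hl2
    obtain ⟨g, hg⟩ := inv_conj l.2 k.2 (congrArg Prod.snd (hpair l l hl hl).2) hl2
      (congrArg Prod.snd (hpair k k hk hk).2) hk2
    refine isConj_iff.2 ⟨φ (1, g), ?_⟩
    rw [← map_inv, ← map_mul, ← map_mul]
    congr 1
    exact Prod.ext (by simp [he]) hg
  have hall : ∀ k, φ k ∈ (P : Subgroup G) → k ≠ 1 → IsConj t (φ k) := by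
    intro k hk hk1
    by_contra hne
    -- the class of `t` inside `P` is `t` and one of the two halves
    obtain ⟨y, hyP, hty, hyt⟩ := exists_moved hG P htP ht1 htt
    obtain ⟨l, rfl⟩ := hpre y hyP
    have hl1 : l ≠ 1 := fun h => by
      rw [h, map_one] at hty
      exact ht1 (isConj_one_left.1 hty)
    have hlz : l ≠ zc := fun h => hyt (h ▸ hzt)
    have hsnd : ∀ m : K, m ≠ 1 → m ≠ zc → m.2 ≠ 1 := by
      intro m h1 h2 h
      rcases fst_cases m.1 with e | e
      · exact h1 (Prod.ext e h)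
      · exact h2 (Prod.ext e h)
    have hkz : k ≠ zc := fun h => hne (by rw [h, hzt])
    have hdiff : k.1 ≠ l.1 := fun h =>
      hne (hty.trans (hAconj l k hyP hk h.symm (hsnd l hl1 hlz) (hsnd k hk1 hkz)))
    have horb : Odd (Nat.card {y : G // y ∈ (P : Subgroup G) ∧ IsConj t y}) := orbit_odd P htP
    let half : Finset K := (Q.filter fun m => m.1 = l.1).filter fun m => m ≠ 1 ∧ m ≠ zc
    have hmem : ∀ m : K, (φ m ∈ (P : Subgroup G) ∧ IsConj t (φ m)) ↔ m = zc ∨ m ∈ half := by
      intro m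
      simp only [half, Q, Finset.mem_filter, Finset.mem_univ, true_and]
      constructor
      · rintro ⟨hm, hc⟩
        by_cases hmz : m = zc
        · exact Or.inl hmz
        have hm1 : m ≠ 1 := fun h => by
          rw [h, map_one] at hc
          exact ht1 (isConj_one_left.1 hc)
        refine Or.inr ⟨⟨hm, ?_⟩, hm1, hmz⟩
        rcases fst_cases m.1 with e1 | e1 <;> rcases fst_cases l.1 with e2 | e2
        · rw [e1, e2]
        · exact absurd (hc.trans (hAconj m k hm hk (by
            rw [e1, (fst_cases k.1).resolve_right fun e => hdiff (e.trans e2.symm)]) (hsnd m hm1 hmz)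
            (hsnd k hk1 hkz))) hne
        · exact absurd (hc.trans (hAconj m k hm hk (by
            rw [e1, (fst_cases k.1).resolve_left fun e => hdiff (e.trans e2.symm)]) (hsnd m hm1 hmz)
            (hsnd k hk1 hkz))) hne
        · rw [e1, e2]
      · rintro (rfl | ⟨⟨hm, he⟩, hm1, hmz⟩)
        · exact ⟨hzP, by rw [hzt]⟩
        · exact ⟨hm, hty.trans (hAconj l m hyP hm he.symm (hsnd l hl1 hlz) (hsnd m hm1 hmz))⟩
    have hhalf : half.card = 3 := by
      have hz : zc.1 = Multiplicative.ofAdd (1 : ZMod 2) := rfl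
      have hzQ : zc ∈ Q := Finset.mem_filter.2 ⟨Finset.mem_univ _, hzP⟩
      have h1Q : (1 : K) ∈ Q := Finset.mem_filter.2 ⟨Finset.mem_univ _, by rw [map_one]; exact one_mem _⟩
      rcases fst_cases l.1 with e2 | e2
      · have hh : half = Q0.erase 1 := by
          ext m
          simp only [half, Q0, Finset.mem_filter, Finset.mem_erase, e2]
          exact ⟨fun h => ⟨h.2.1, h.1⟩, fun h => ⟨h.2, h.1, fun e => by
            have := h.2.2
            rw [e, hz] at this
            exact absurd this (by decide)⟩⟩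
        have hm : (1 : K) ∈ Q0 := Finset.mem_filter.2 ⟨h1Q, rfl⟩
        rw [hh, Finset.card_erase_of_mem hm]
        omega
      · have hh : half = Q1.erase zc := by
          ext m
          simp only [half, Q1, Finset.mem_filter, Finset.mem_erase, e2]
          refine ⟨fun h => ⟨h.2.2, h.1.1, by rw [h.1.2]; decide⟩, fun h => ⟨⟨h.2.1, (fst_cases m.1).resolve_left h.2.2⟩,
            fun e => h.2.2 (by rw [e]; rfl), h.1⟩⟩
        have hm : zc ∈ Q1 := Finset.mem_filter.2 ⟨hzQ, by rw [hz]; decide⟩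
        rw [hh, Finset.card_erase_of_mem hm]
        omega
    have hcard : Nat.card {y : G // y ∈ (P : Subgroup G) ∧ IsConj t y} = 4 := by
      rw [← Nat.card_congr (Equiv.ofBijective (fun m : {m : K // m = zc ∨ m ∈ half} =>
        (⟨φ m.1, (hmem m.1).2 m.2⟩ : {y : G // y ∈ (P : Subgroup G) ∧ IsConj t y}))
        ⟨fun a b h => Subtype.ext (hφ (congrArg Subtype.val h :)), fun ⟨y, hy, hc⟩ => by
          obtain ⟨m, rfl⟩ := hpre y hy
          exact ⟨⟨m, (hmem m).1 ⟨hy, hc⟩⟩, rfl⟩⟩), Nat.card_eq_fintype_card, Fintype.card_subtype,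
        odd_of_union (fun m => m ∈ half) (fun m => m = zc ∨ m ∈ half) zc (fun x => Iff.rfl)
          (fun h => (Finset.mem_filter.1 h).2.2 rfl)]
      rw [Finset.filter_mem_eq_inter, Finset.univ_inter, hhalf]
    rw [hcard] at horb
    exact absurd horb (by decide)
  refine ⟨⟨φ, hφ, by rw [hrange, hzt], h8, h16, fun x hx hx1 => ?_⟩, hzt⟩
  have hx' : IsPGroup 2 (zpowers x) := IsPGroup.of_card (n := 1) (by
    rw [Nat.card_zpowers, pow_one, orderOf_eq_prime (by rw [pow_two, hx]) hx1])
  obtain ⟨R, hR⟩ := hx'.exists_le_sylow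
  obtain ⟨g, hg⟩ := MulAction.exists_smul_eq G R P
  have hgx : g * x * g⁻¹ ∈ (P : Subgroup G) := by
    rw [← hg, Sylow.coe_subgroup_smul]
    exact ⟨x, hR (mem_zpowers x), rfl⟩
  obtain ⟨k, hk⟩ := hpre _ hgx
  have hk1 : k ≠ 1 := fun h => by
    rw [h, map_one] at hk
    exact hx1 (conj_eq_one_iff.1 hk.symm)
  rw [hzt]
  exact (hall k (hk ▸ hgx) hk1).trans (hk ▸ (isConj_iff.2 ⟨g, rfl⟩ : IsConj x (g * x * g⁻¹)).symm)

end Cfsg.Lib.JankoOne
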