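import Cfsg.Agent.JankoOne.Table

/-!
Facts about `2 × A₅` used in the local analysis, checked by computation.
-/

set_option autoImplicit false
set_option maxRecDepth 20000

namespace Cfsg.Lib.JankoOne

open Equiv

theorem two_comm : ∀ u v : A, u ^ 8 = 1 → v ^ 8 = 1 → (u * v) ^ 8 = 1 → u * v = v * u ∧ u * u = 1 := by
  decide +kernel

theorem inv_conj : ∀ u v : A, u * u = 1 → u ≠ 1 → v * v = 1 → v ≠ 1 → CA u v := by decide +kernel

theorem fst_cases : ∀ s : Multiplicative (ZMod 2), s = 1 ∨ s = Multiplicative.ofAdd 1 := by decide +kernel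

theorem zc_comm : ∀ k : K, zc * k = k * zc := by
  intro k
  refine Prod.ext (mul_comm _ _) ?_
  show (1 : A) * k.2 = k.2 * 1
  rw [one_mul, mul_one]

theorem zc_sq : zc * zc = 1 ∧ zc ≠ 1 := by decide +kernel

theorem noncomm : rE * fE ≠ fE * rE := by decide +kernel

theorem card_K : Fintype.card K = 120 := by decide +kernel

/-- The numbers of involutions of the model inverting the representatives of the outer classes. -/
theorem inverting : ∀ a : Fin 4, (Finset.univ.filter fun k : K =>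
    k * k = 1 ∧ k ≠ 1 ∧ k * (Multiplicative.ofAdd 1, rep a) * k * (Multiplicative.ofAdd 1, rep a) = 1 ∧
      k ≠ (Multiplicative.ofAdd 1, rep a)).card = ![30, 6, 10, 10] a := by
  decide +kernel

/-- The centralizers of the elements of order three and five commuting with the central involution. -/
theorem small_cent : ∀ a : Fin 4, a ≠ 0 → ∀ k : K, k * k * (k * k) = 1 →
    k * (1, rep a) = (1, rep a) * k → k = 1 ∨ k = zc := by
  decide +kernel

/-- Involutions inverting the elements of order three and five. -/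
theorem reflection : ∀ a : Fin 4, a ≠ 0 → ∃ u : A, u * u = 1 ∧ u ≠ 1 ∧ u * rep a * u⁻¹ = (rep a)⁻¹ ∧
    rep a * rep a ≠ 1 ∧ orderOf (rep a) ∣ 15 := by
  intro a ha
  have h : ∀ a : Fin 4, a ≠ 0 → ∃ u : A, u * u = 1 ∧ u ≠ 1 ∧ u * rep a * u⁻¹ = (rep a)⁻¹ ∧
      rep a * rep a ≠ 1 ∧ rep a ^ 15 = 1 := by decide +kernel
  obtain ⟨u, h1, h2, h3, h4, h5⟩ := h a ha
  exact ⟨u, h1, h2, h3, h4, orderOf_dvd_of_pow_eq_one h5⟩

theorem rep_orders : rep 1 ^ 3 = 1 ∧ rep 1 ≠ 1 ∧ rep 2 ^ 5 = 1 ∧ rep 2 ≠ 1 := by decide +kernel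

theorem order_three_class : ∀ u : A, u ^ 3 = 1 → u ≠ 1 → CA u (rep 1) := by decide +kernel

end Cfsg.Lib.JankoOne
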