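import Cfsg.Agent.LocalThree.GramSplit

/-!
The ways of writing the Gram matrix of the exceptional multiplicities as a sum of squares of rows.
-/

set_option autoImplicit false
set_option maxRecDepth 20000

namespace Cfsg.Lib.JankoOne

open Cfsg.Lib.GramSplit

/-- The Gram matrix without the principal part. -/
def rest : Mat := [[3, 1, 0, 1], [1, 3, 0, 1], [0, 0, 2, 0], [1, 1, 0, 3]]

/-- The solutions. -/
def sols : List (List Row) := [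
  [[1, 0, 0, 0], [1, 0, 0, 0], [1, 1, 0, 1], [0, 1, 0, 0], [0, 1, 0, 0], [0, 0, 1, 0], [0, 0, 1, 0], [0, 0, 0, 1], [0, 0, 0, 1]],
  [[1, 0, 0, 0], [1, 0, 0, 0], [1, 1, 0, 1], [0, 1, 0, 0], [0, 1, 0, 0], [0, 0, 1, 1], [0, 0, 1, -1]],
  [[1, 0, 0, 0], [1, 0, 0, 0], [1, 1, 0, 1], [0, 1, 0, 1], [0, 1, 0, -1], [0, 0, 1, 0], [0, 0, 1, 0]],
  [[1, 0, 0, 0], [1, 0, 0, 0], [1, 1, 0, 1], [0, 1, 1, 0], [0, 1, -1, 0], [0, 0, 0, 1], [0, 0, 0, 1]],
  [[1, 0, 0, 0], [1, 0, 0, 1], [1, 1, 0, 0], [0, 1, 0, 0], [0, 1, 0, 1], [0, 0, 1, 0], [0, 0, 1, 0], [0, 0, 0, 1]],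
  [[1, 0, 0, 1], [0, 1, 0, 0], [0, 1, 0, 0], [1, 1, 0, 1], [1, 0, 0, -1], [0, 0, 1, 0], [0, 0, 1, 0]],
  [[1, 0, 0, 1], [0, 1, 1, 0], [0, 1, -1, 0], [1, 1, 0, 1], [1, 0, 0, -1]],
  [[1, 0, 1, 0], [1, 0, -1, 0], [1, 1, 0, 1], [0, 1, 0, 0], [0, 1, 0, 0], [0, 0, 0, 1], [0, 0, 0, 1]],
  [[1, 0, 1, 0], [1, 0, -1, 0], [1, 1, 0, 1], [0, 1, 0, 1], [0, 1, 0, -1]],
  [[1, 1, 0, 0], [0, 0, 0, 1], [0, 0, 0, 1], [1, 1, 0, 1], [1, -1, 0, 0], [0, 0, 1, 0], [0, 0, 1, 0]],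
  [[1, 1, 0, 0], [0, 0, 1, 1], [0, 0, 1, -1], [1, 1, 0, 1], [1, -1, 0, 0]]]

/-- The search tree. -/
def cert : Cert :=
  (.branch [1, 0, 0, 0] (.branch [1, 0, 0, 0] (.branch [1, 1, 0, 1] (.branch [0, 1, 0, 0] (.branch [0, 1, 0, 0]
  (.branch [0, 0, 1, 0] (.branch [0, 0, 1, 0] (.branch [0, 0, 0, 1] (.branch [0, 0, 0, 1] .done (.last 3 []))
  (.last 3 [])) (.last 2 [])) (.branch [0, 0, 1, 1] (.branch [0, 0, 1, -1] .done (.last 2 [])) (.branch [0, 0,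
  1, -1] (.last 2 []) (.last 2 [])))) (.last 1 [])) (.branch [0, 1, 0, 1] (.branch [0, 1, 0, -1] (.branch [0, 0,
  1, 0] (.branch [0, 0, 1, 0] .done (.last 2 [])) (.last 2 [])) (.last 1 [])) (.branch [0, 1, 0, -1] (.last 1
  []) (.branch [0, 1, 1, 0] (.branch [0, 1, -1, 0] (.branch [0, 0, 0, 1] (.branch [0, 0, 0, 1] .done (.last 3
  [])) (.last 3 [])) (.last 1 [])) (.branch [0, 1, 1, 1] (.last 1 []) (.branch [0, 1, 1, -1] (.last 1 [])
  (.branch [0, 1, -1, 0] (.last 1 []) (.branch [0, 1, -1, 1] (.last 1 []) (.branch [0, 1, -1, -1] (.last 1 [])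
  (.last 1 [])))))))))) (.last 0 [])) (.branch [1, 0, 0, 1] (.branch [1, 1, 0, 0] (.branch [0, 1, 0, 0] (.branch
  [0, 1, 0, 1] (.branch [0, 0, 1, 0] (.branch [0, 0, 1, 0] (.branch [0, 0, 0, 1] .done (.last 3 [])) (.last 2
  [])) (.last 2 [])) (.last 1 [])) (.branch [0, 1, 0, 1] (.last 1 []) (.branch [0, 1, 1, 0] (.last 1 [])
  (.branch [0, 1, 1, 1] (.last 1 []) (.branch [0, 1, -1, 0] (.last 1 []) (.branch [0, 1, -1, 1] (.last 1 [])
  (.last 1 []))))))) (.last 0 [])) (.branch [1, 0, 1, 0] (.last 0 []) (.branch [1, 0, 1, 1] (.last 0 [])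
  (.branch [1, 0, -1, 0] (.last 0 []) (.branch [1, 0, -1, 1] (.last 0 []) (.branch [1, 1, 0, 0] (.last 0 [])
  (.branch [1, 1, 0, 1] (.last 0 []) (.branch [1, 1, 1, 0] (.last 0 []) (.branch [1, 1, 1, 1] (.last 0 [])
  (.branch [1, 1, -1, 0] (.last 0 []) (.branch [1, 1, -1, 1] (.last 0 []) (.last 0 []))))))))))))) (.branch [1,
  0, 0, 1] (.branch [0, 1, 0, 0] (.branch [0, 1, 0, 0] (.branch [1, 1, 0, 1] (.branch [1, 0, 0, -1] (.branch [0,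
  0, 1, 0] (.branch [0, 0, 1, 0] .done (.last 2 [])) (.last 2 [])) (.last 0 [])) (.last 1 [])) (.branch [0, 1,
  0, 1] (.branch [1, 1, 0, 0] (.last 0 []) (.last 1 [])) (.branch [0, 1, 1, 0] (.last 1 []) (.branch [0, 1, 1,
  1] (.last 1 []) (.branch [0, 1, -1, 0] (.last 1 []) (.branch [0, 1, -1, 1] (.last 1 []) (.branch [1, 1, 0, 0]
  (.last 0 []) (.branch [1, 1, 0, 1] (.branch [1, 0, 0, -1] (.last 1 []) (.last 0 [])) (.branch [1, 1, 1, 0]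
  (.last 0 []) (.branch [1, 1, 1, 1] (.last 0 []) (.branch [1, 1, -1, 0] (.last 0 []) (.branch [1, 1, -1, 1]
  (.last 0 []) (.last 1 []))))))))))))) (.branch [0, 1, 0, 1] (.branch [0, 0, 0, 1] (.branch [1, 0, 1, 0] (.last
  0 []) (.branch [1, 0, -1, 0] (.last 0 []) (.branch [1, 1, 0, 0] (.last 0 []) (.branch [1, 1, 1, 0] (.last 0
  []) (.branch [1, 1, -1, 0] (.last 0 []) (.last 0 [])))))) (.last 3 [])) (.branch [0, 1, 1, 0] (.branch [0, -1,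
  1, 0] (.branch [1, 1, 0, 1] (.branch [1, 0, 0, -1] .done (.last 0 [])) (.last 1 [])) (.last 2 [])) (.branch
  [0, 1, 1, 1] (.last 2 []) (.branch [0, 1, -1, 0] (.last 2 []) (.branch [0, 1, -1, 1] (.last 2 []) (.branch [1,
  1, 0, 0] (.last 0 []) (.branch [1, 1, 0, 1] (.branch [1, 0, 0, -1] (.last 1 []) (.last 0 [])) (.branch [1, 1,
  1, 0] (.last 0 []) (.branch [1, 1, 1, 1] (.last 0 []) (.branch [1, 1, -1, 0] (.last 0 []) (.branch [1, 1, -1,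
  1] (.last 0 []) (.last 1 []))))))))))))) (.branch [1, 0, 0, -1] (.branch [1, 0, 1, 1] (.last 0 []) (.branch
  [1, 0, -1, 1] (.last 0 []) (.branch [1, 1, 0, 1] (.last 0 []) (.branch [1, 1, 1, 1] (.last 0 []) (.branch [1,
  1, -1, 1] (.last 0 []) (.last 0 [])))))) (.branch [1, 0, 1, 0] (.branch [-1, 0, 1, 0] (.branch [1, 1, 0, 1]
  (.branch [0, 1, 0, 0] (.branch [0, 1, 0, 0] (.branch [0, 0, 0, 1] (.branch [0, 0, 0, 1] .done (.last 3 []))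
  (.last 3 [])) (.last 1 [])) (.branch [0, 1, 0, 1] (.branch [0, 1, 0, -1] .done (.last 1 [])) (.branch [0, 1,
  0, -1] (.last 1 []) (.last 1 [])))) (.last 0 [])) (.last 2 [])) (.branch [1, 0, 1, 1] (.branch [-1, 0, 1, -1]
  (.last 0 []) (.last 2 [])) (.branch [1, 0, 1, -1] (.last 2 []) (.branch [1, 0, -1, 0] (.last 2 []) (.branch
  [1, 0, -1, 1] (.last 2 []) (.branch [1, 0, -1, -1] (.last 2 []) (.branch [1, 1, 0, 0] (.branch [0, 0, 0, 1]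
  (.branch [0, 0, 0, 1] (.branch [1, 1, 0, 1] (.branch [1, -1, 0, 0] (.branch [0, 0, 1, 0] (.branch [0, 0, 1, 0]
  .done (.last 2 [])) (.last 2 [])) (.last 0 [])) (.last 3 [])) (.branch [0, 0, 1, 1] (.last 2 []) (.branch [0,
  0, -1, 1] (.last 2 []) (.branch [0, 1, 0, 1] (.branch [0, 1, 0, 0] (.last 3 []) (.last 1 [])) (.branch [0, 1,
  1, 1] (.last 1 []) (.branch [0, 1, -1, 1] (.last 1 []) (.branch [1, 1, 0, 1] (.branch [1, -1, 0, 0] (.branch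
  [0, 0, 1, 0] (.branch [0, 0, 1, 0] (.last 3 []) (.last 2 [])) (.last 2 [])) (.last 0 [])) (.branch [1, 1, 1,
  1] (.last 0 []) (.branch [1, 1, -1, 1] (.last 0 []) (.last 3 [])))))))))) (.branch [0, 0, 1, 1] (.branch [0,
  0, 1, -1] (.branch [1, 1, 0, 1] (.branch [1, -1, 0, 0] .done (.last 0 [])) (.last 3 [])) (.last 2 []))
  (.branch [0, 0, -1, 1] (.last 2 []) (.branch [0, 1, 0, 1] (.branch [0, 1, 0, 0] (.last 0 []) (.last 1 []))
  (.branch [0, 1, 1, 1] (.last 1 []) (.branch [0, 1, -1, 1] (.last 1 []) (.branch [1, 1, 0, 1] (.branch [1, -1,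
  0, 0] (.branch [0, 0, 1, 0] (.branch [0, 0, 1, 0] (.last 3 []) (.last 2 [])) (.last 2 [])) (.last 0 []))
  (.branch [1, 1, 1, 1] (.last 0 []) (.branch [1, 1, -1, 1] (.last 0 []) (.last 3 [])))))))))) (.branch [1, 1,
  0, 1] (.branch [1, 1, 0, 1] (.last 0 []) (.branch [1, 1, 0, -1] (.last 0 []) (.branch [1, 1, 1, 0] (.last 0
  []) (.branch [1, 1, 1, 1] (.last 0 []) (.branch [1, 1, 1, -1] (.last 0 []) (.branch [1, 1, -1, 0] (.last 0 [])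
  (.branch [1, 1, -1, 1] (.last 0 []) (.branch [1, 1, -1, -1] (.last 0 []) (.branch [1, -1, 0, 0] (.last 0 [])
  (.branch [1, -1, 0, 1] (.last 0 []) (.branch [1, -1, 0, -1] (.last 0 []) (.branch [1, -1, 1, 0] (.last 0 [])
  (.branch [1, -1, 1, 1] (.last 0 []) (.branch [1, -1, 1, -1] (.last 0 []) (.branch [1, -1, -1, 0] (.last 0 [])
  (.branch [1, -1, -1, 1] (.last 0 []) (.branch [1, -1, -1, -1] (.last 0 []) (.last 0 []))))))))))))))))))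
  (.branch [1, 1, 0, -1] (.branch [1, 1, 1, 1] (.last 0 []) (.branch [1, 1, -1, 1] (.last 0 []) (.last 0 [])))
  (.branch [1, 1, 1, 0] (.branch [-1, -1, 1, 0] (.last 0 []) (.last 2 [])) (.branch [1, 1, 1, 1] (.branch [-1,
  -1, 1, -1] (.last 0 []) (.last 2 [])) (.branch [1, 1, 1, -1] (.last 2 []) (.branch [1, 1, -1, 0] (.last 2 [])
  (.branch [1, 1, -1, 1] (.last 2 []) (.branch [1, 1, -1, -1] (.last 2 []) (.branch [1, -1, 0, 0] (.last 0 [])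
  (.branch [1, -1, 0, 1] (.last 0 []) (.branch [1, -1, 0, -1] (.last 0 []) (.branch [1, -1, 1, 0] (.last 2 [])
  (.branch [1, -1, 1, 1] (.last 2 []) (.branch [1, -1, 1, -1] (.last 2 []) (.branch [1, -1, -1, 0] (.last 2 [])
  (.branch [1, -1, -1, 1] (.last 2 []) (.branch [1, -1, -1, -1] (.last 2 []) (.last 0
  []))))))))))))))))))))))))))))

theorem cert_check : check 4 sols [] cert rest [] [] = true := by decide +kernel

/-- Exchange of the first two entries. -/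
def swapRow : Row → Row
  | a :: b :: l => b :: a :: l
  | l => l

/-- A solution which no field automorphism can respect. -/
def killed (sol : List Row) : Bool :=
  sol.any fun r => decide (nrm (swapRow r) ∉ sol) ||
    (decide (nrm (swapRow r) = r) && decide (swapRow r ≠ r) && decide (sol.count r = 1))

/-- The solutions compatible with the field automorphisms. -/
def goodSols : List (List Row) := [
  [[1, 0, 0, 0], [1, 0, 0, 0], [1, 1, 0, 1], [0, 1, 0, 0], [0, 1, 0, 0], [0, 0, 1, 0], [0, 0, 1, 0], [0, 0, 0, 1], [0, 0, 0, 1]],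
  [[1, 0, 0, 0], [1, 0, 0, 0], [1, 1, 0, 1], [0, 1, 0, 0], [0, 1, 0, 0], [0, 0, 1, 1], [0, 0, 1, -1]],
  [[1, 0, 0, 0], [1, 0, 0, 1], [1, 1, 0, 0], [0, 1, 0, 0], [0, 1, 0, 1], [0, 0, 1, 0], [0, 0, 1, 0], [0, 0, 0, 1]]]

theorem sols_cases : ∀ sol ∈ sols, killed sol = true ∨ sol ∈ goodSols := by decide +kernel

theorem sols_rows : ∀ sol ∈ sols, ∀ r ∈ sol, r.length = 4 ∧ nrm r = r ∧ r ≠ [0, 0, 0, 0] := by decide +kernel

end Cfsg.Lib.JankoOne
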