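import Cfsg.Agent.JankoOne.Exc
import Cfsg.Agent.JankoOne.Split

/-!
The members with a nonzero value at an element with 2-part an involution: their rows, signed degrees and
the relations between them.
-/

set_option autoImplicit false
set_option linter.unusedSectionVars false

namespace Cfsg.Lib.JankoOne

open Cfsg.Lib.Chars Cfsg.Lib.GramSplit
open scoped ComplexConjugate

universe u

/-- The value at the involution belonging to a row. -/
def rowU (r : Row) : ℤ := 3 * ent r 0 + 3 * ent r 1 + 4 * ent r 2 - 5 * ent r 3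

/-- The value at an element of order six belonging to a row. -/
def rowV (r : Row) : ℤ := ent r 2 + ent r 3

/-- The sum of the values at the two classes of elements of order ten belonging to a row. -/
def rowW (r : Row) : ℤ := ent r 0 + ent r 1 - 2 * ent r 2

variable {G : Type u} [Group G] [Finite G] {S : Setup G}

/-- The principal character. -/
noncomputable def princ (G : Type u) [Group G] : Cfsg.IrrCharacter G := ⟨_, isIrrCharacter_one⟩

theorem deg_princ : deg (princ G : G → ℂ) = 1 := by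
  have h := irr_apply_one_eq_deg (princ G)
  rw [show (princ G : G → ℂ) 1 = 1 from rfl] at h
  exact_mod_cast h.symm

theorem galIrr_princ (σ : ℂ ≃+* ℂ) : galIrr σ (princ G) = princ G := Subtype.ext (funext fun _ => map_one σ)

theorem galIrr_inj (σ : ℂ ≃+* ℂ) : Function.Injective (galIrr (G := G) σ) := fun a b h =>
  Subtype.ext (funext fun g => σ.injective (congrFun (congrArg Subtype.val h) g))

theorem eq_of_count_one {α β : Type*} [DecidableEq β] (f : α → β) :
    ∀ {L : List α}, ∀ x ∈ L, ∀ y ∈ L, f x = f y → (L.map f).count (f x) = 1 → x = y := by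
  intro L
  induction L with
  | nil => simp
  | cons a L ih =>
    intro x hx y hy he hc
    rw [List.map_cons, List.count_cons] at hc
    rcases List.mem_cons.1 hx with e | hxL <;> rcases List.mem_cons.1 hy with e' | hyL
    · rw [e, e']
    · have : 0 < (L.map f).count (f x) := List.count_pos_iff.2 (List.mem_map.2 ⟨y, hyL, he.symm⟩)
      rw [← e] at hc
      simp at hc
      omega
    · have : 0 < (L.map f).count (f x) := List.count_pos_iff.2 (List.mem_map.2 ⟨x, hxL, rfl⟩)
      rw [← e', ← he] at hc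
      simp at hc
      omega
    · refine ih x hxL y hyL he ?_
      have : 0 < (L.map f).count (f x) := List.count_pos_iff.2 (List.mem_map.2 ⟨x, hxL, rfl⟩)
      omega

/-- The members with their signs. -/
structure Family (m : Setup.Mults S) where
  sol : List Row
  L : List (Cfsg.IrrCharacter G)
  row : Cfsg.IrrCharacter G → Row
  sg : Cfsg.IrrCharacter G → ℤ
  mem_sols : sol ∈ sols
  map_row : L.map row = sol
  nodup : L.Nodup
  princ_not : princ G ∉ L
  sg_sq : ∀ x, sg x * sg x = 1
  row_eq : ∀ x (i : Fin 4), m.n i x = sg x * ent (row x) i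
  rest_zero : ∀ x, x ≠ princ G → x ∉ L → ∀ i, m.n i x = 0
  row_nrm : ∀ x, (row x).length = 4 ∧ nrm (row x) = row x

theorem exists_family (m : Setup.Mults S) : Nonempty (Family m) := by
  classical
  let o := princ G
  let n' : ℕ → Cfsg.IrrCharacter G → ℤ := fun i x => if h : i < 4 then m.n ⟨i, h⟩ x else 0
  have hn' : ∀ (i : Fin 4) x, n' i x = m.n i x := fun i x => by simp [n', i.2]
  have := Fintype.ofFinite (Cfsg.IrrCharacter G)
  obtain ⟨L', hnd, hLs, hrest, sol, hsol, hp⟩ := sound sols n' (by simp) cert rest [] [] cert_check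
    (Finset.univ.erase o)
    (fun i hi j hj => by
      have e := m.norms ⟨i, hi⟩ ⟨j, hj⟩
      rw [← Finset.add_sum_erase _ _ (Finset.mem_univ o)] at e
      simp only [n', hi, hj, dite_true]
      simp only [o, princ, m.princ] at e
      have hg : get rest i j = gram ⟨i, hi⟩ ⟨j, hj⟩ - prin ⟨i, hi⟩ * prin ⟨j, hj⟩ := by
        have : ∀ a b : Fin 4, get rest a b = gram a b - prin a * prin b := by decide +kernel
        exact this ⟨i, hi⟩ ⟨j, hj⟩
      rw [hg, ← e]
      simp only [o, princ]
      ring)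
    (fun x _ => List.not_mem_nil)
  obtain ⟨L, hL, hmap⟩ := exists_perm_map (fun x => nrm (col 4 n' x)) (by simpa using hp)
  refine ⟨{
    sol := sol, L := L, row := fun x => nrm (col 4 n' x)
    sg := fun x => if nrm (col 4 n' x) = col 4 n' x then 1 else -1
    mem_sols := hsol, map_row := hmap, nodup := hL.nodup_iff.2 hnd
    princ_not := fun hm => (Finset.mem_erase.1 (hLs _ (hL.mem_iff.1 hm))).1 rfl
    sg_sq := fun x => by split_ifs <;> rfl
    row_eq := fun x i => ?_
    rest_zero := fun x hx hxL i => ?_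
    row_nrm := fun x => ?_ }⟩
  · have hc' : ent (col 4 n' x) i = m.n i x := by rw [ent_col i.2, hn']
    split_ifs with he
    · rw [he, hc', one_mul]
    · rw [(nrm_sign _).resolve_left he]
      have e : ent ((col 4 n' x).map Neg.neg) i = -ent (col 4 n' x) i := by
        simp [ent, col, List.getD_eq_getElem?_getD, i.2]
      rw [e, hc']; ring
  · have := hrest x (Finset.mem_erase.2 ⟨hx, Finset.mem_univ _⟩) (fun hm => hxL (hL.mem_iff.2 hm)) i i.2
    rwa [hn'] at this
  · have hlen : (col 4 n' x).length = 4 := by simp [col]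
    rcases nrm_sign (col 4 n' x) with e | e
    · exact ⟨by rw [e, hlen], by rw [e, e]⟩
    · exact ⟨by rw [e, List.length_map, hlen], by rw [e, nrm_neg, e]⟩

namespace Family

variable {m : Setup.Mults S} (F : Family m)

/-- The signed degree. -/
noncomputable def D (x : Cfsg.IrrCharacter G) : ℤ := F.sg x * deg (x : G → ℂ)

theorem sum_split {M : Type} [AddCommMonoid M] [Fintype (Cfsg.IrrCharacter G)] (f : Cfsg.IrrCharacter G → M)
    (hf : ∀ x, (∀ i, m.n i x = 0) → f x = 0) : ∑ x, f x = f (princ G) + (F.L.map f).sum := by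
  classical
  rw [← List.sum_toFinset _ F.nodup,
    ← Finset.sum_subset (Finset.subset_univ (insert (princ G) F.L.toFinset)) fun x _ hx => ?_]
  · rw [Finset.sum_insert (by simpa using F.princ_not)]
  · simp only [Finset.mem_insert, List.mem_toFinset, not_or] at hx
    exact hf x (F.rest_zero x hx.1 hx.2)

theorem uval_eq (x : Cfsg.IrrCharacter G) : Setup.uval m x = F.sg x * rowU (F.row x) := by
  simp only [Setup.uval, rowU, F.row_eq]
  simp only [Fin.val_zero, Fin.val_one, Fin.val_two, show ((3 : Fin 4) : ℕ) = 3 from rfl]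
  ring

theorem deg_pos (_F : Family m) (x : Cfsg.IrrCharacter G) : (0 : ℤ) < deg (x : G → ℂ) := by
  have := deg_irr_pos x
  exact_mod_cast this

theorem D_ne (x : Cfsg.IrrCharacter G) : F.D x ≠ 0 := by
  have h := F.sg_sq x
  have h' := F.deg_pos x
  intro e
  rcases mul_eq_zero.1 e with e | e
  · rw [e] at h; norm_num at h
  · omega

theorem D_sq (x : Cfsg.IrrCharacter G) : F.D x * F.D x = (deg (x : G → ℂ) : ℤ) * deg (x : G → ℂ) := by
  have h := F.sg_sq x
  unfold D
  linear_combination ((deg (x : G → ℂ) : ℤ) * deg (x : G → ℂ)) * h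

theorem D_dvd (x : Cfsg.IrrCharacter G) : F.D x ∣ (Nat.card G : ℤ) := by
  have h := F.sg_sq x
  refine dvd_trans ⟨F.sg x, ?_⟩ (Int.natCast_dvd_natCast.2 (IsIrrCharacter.deg_dvd x.2))
  unfold D
  linear_combination -(deg (x : G → ℂ) : ℤ) * h

theorem D_congr (x : Cfsg.IrrCharacter G) : (8 : ℤ) ∣ F.D x + 7 * rowU (F.row x) := by
  obtain ⟨k, hk⟩ := Setup.congr_eight m x
  have h := F.sg_sq x
  refine ⟨F.sg x * k, ?_⟩
  rw [F.uval_eq] at hk
  unfold D
  linear_combination F.sg x * hk - (7 * rowU (F.row x)) * h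

theorem degree_sum (i : Fin 4) : prin i + (F.L.map fun x => ent (F.row x) i * F.D x).sum = 0 := by
  have := Fintype.ofFinite (Cfsg.IrrCharacter G)
  have h := F.sum_split (fun x => m.n i x * (deg (x : G → ℂ) : ℤ)) (fun x hx => by simp [hx i])
  rw [m.degs i] at h
  have h1 : (deg (princ G : G → ℂ) : ℤ) = 1 := by rw [deg_princ]; rfl
  simp only [h1, mul_one] at h
  simp only [princ, m.princ] at h
  rw [h]
  congr 2
  refine List.map_congr_left fun x _ => ?_
  rw [F.row_eq, D]
  ring

theorem sq_sum : 1 + (F.L.map fun x => F.D x * F.D x).sum ≤ (Nat.card G : ℤ) := by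
  classical
  have := Fintype.ofFinite (Cfsg.IrrCharacter G)
  simp only [F.D_sq]
  rw [← List.sum_toFinset _ F.nodup]
  have h1 : (deg (princ G : G → ℂ) : ℤ) = 1 := by rw [deg_princ]; rfl
  have h := Finset.sum_le_sum_of_subset_of_nonneg (Finset.subset_univ (insert (princ G) F.L.toFinset))
    (f := fun x : Cfsg.IrrCharacter G => (deg (x : G → ℂ) : ℤ) * deg (x : G → ℂ))
    (fun x _ _ => mul_self_nonneg _)
  rw [Finset.sum_insert (by simpa using F.princ_not), h1, one_mul] at h
  refine le_trans h (le_of_eq ?_)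
  have h2 := congrArg (Nat.cast : ℕ → ℤ) (sum_deg_sq_nat (G := G))
  push_cast at h2
  rw [← h2]
  exact Finset.sum_congr (by ext; simp) fun x _ => by ring

/-- A field automorphism sends a member to a member with exchanged row. -/
theorem gal (σ : ℂ ≃+* ℂ) {x : Cfsg.IrrCharacter G} (hx : x ∈ F.L) :
    galIrr σ x ∈ F.L ∧ ∃ r : Row, (r = F.row x ∨ r = swapRow (F.row x)) ∧
      (σ tau ≠ tau → r = swapRow (F.row x)) ∧ (σ tau = tau → r = F.row x) ∧
      ((F.row (galIrr σ x) = r ∧ F.D (galIrr σ x) = F.D x) ∨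
        (F.row (galIrr σ x) = r.map Neg.neg ∧ F.D (galIrr σ x) = -F.D x)) := by
  classical
  have hr : F.row x ∈ F.sol := F.map_row ▸ List.mem_map.2 ⟨x, hx, rfl⟩
  obtain ⟨hlen, -, hne0⟩ := sols_rows _ F.mem_sols _ hr
  obtain ⟨a, b, c, d, hrow⟩ : ∃ a b c d, F.row x = [a, b, c, d] := by
    match h : F.row x, hlen with
    | [a, b, c, d], _ => exact ⟨a, b, c, d, rfl⟩
  let r : Row := if σ tau = tau then [a, b, c, d] else [b, a, c, d]
  set y := galIrr σ x with hy
  have hn : ∀ i : Fin 4, m.n i y = F.sg x * ent r i := by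
    intro i
    obtain ⟨j, rfl⟩ := (galPerm σ).surjective i
    rw [hy, Setup.gal_n, F.row_eq, hrow]
    congr 1
    simp only [galPerm, r]
    split_ifs
    · rfl
    · fin_cases j <;> rfl
  have hyne : y ≠ princ G := fun e => F.princ_not (by
    rw [← galIrr_princ σ] at e
    rwa [← galIrr_inj σ e])
  have hr0 : r ≠ [0, 0, 0, 0] := by
    intro e
    apply hne0
    rw [hrow]
    simp only [r] at e
    split_ifs at e <;> simp only [List.cons.injEq, and_true] at e ⊢ <;> tauto
  have hyL : y ∈ F.L := by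
    by_contra hyL
    apply hr0
    have h : ∀ i : Fin 4, ent r i = 0 := fun i => by
      have := F.rest_zero y hyne hyL i
      rw [hn] at this
      exact (mul_eq_zero.1 this).resolve_left fun e => by simpa [e] using F.sg_sq x
    have h0 := h 0; have h1 := h 1; have h2 := h 2; have h3 := h 3
    simp only [r] at h0 h1 h2 h3 ⊢
    split_ifs at h0 h1 h2 h3 ⊢ <;> simp_all [ent]
  refine ⟨hyL, r, ?_, ?_, ?_, ?_⟩
  · simp only [r, hrow, swapRow]; split_ifs <;> simp
  · intro h; simp [r, h, hrow, swapRow]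
  · intro h; simp [r, h, hrow]
  obtain ⟨a', b', c', d', hrow'⟩ : ∃ a b c d, F.row y = [a, b, c, d] := by
    match h : F.row y, (F.row_nrm y).1 with
    | [a, b, c, d], _ => exact ⟨a, b, c, d, rfl⟩
  have hrlen : ∃ p q s t, r = [p, q, s, t] := by
    simp only [r]; split_ifs <;> exact ⟨_, _, _, _, rfl⟩
  obtain ⟨p, q, s, t, hr'⟩ := hrlen
  have e : ∀ i : Fin 4, F.sg y * ent [a', b', c', d'] i = F.sg x * ent [p, q, s, t] i := fun i => by
    rw [← hr', ← hrow', ← F.row_eq, hn]
  have hd : F.D y = F.sg y * F.sg x * F.D x := by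
    simp only [D, hy, galIrr_deg]
    linear_combination -(F.sg (galIrr σ x) * (deg (x : G → ℂ) : ℤ)) * F.sg_sq x
  have e0 := e 0; have e1 := e 1; have e2 := e 2; have e3 := e 3
  simp [ent] at e0 e1 e2 e3
  rcases mul_self_eq_one_iff.1 (F.sg_sq y) with h1 | h1 <;> rcases mul_self_eq_one_iff.1 (F.sg_sq x) with h2 | h2 <;>
    rw [h1, h2] at e0 e1 e2 e3 hd
  · exact Or.inl ⟨by rw [hrow', hr']; simp; omega, by rw [hd]; ring⟩
  · exact Or.inr ⟨by rw [hrow', hr']; simp; omega, by rw [hd]; ring⟩
  · exact Or.inr ⟨by rw [hrow', hr']; simp; omega, by rw [hd]; ring⟩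
  · exact Or.inl ⟨by rw [hrow', hr']; simp; omega, by rw [hd]; ring⟩

theorem good : F.sol ∈ goodSols := by
  classical
  refine (sols_cases _ F.mem_sols).resolve_left fun hk => ?_
  obtain ⟨σ, hσ⟩ := exists_swap_auto
  have hne : σ tau ≠ tau := by
    rw [hσ]
    intro h
    have h2 := tau_sq
    rw [show tau = 1 / 2 by linear_combination -(1 / 2 : ℂ) * h] at h2
    norm_num at h2
  simp only [killed, List.any_eq_true, Bool.or_eq_true, Bool.and_eq_true, decide_eq_true_eq] at hk
  obtain ⟨r, hr, hk⟩ := hk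
  obtain ⟨x, hx, hxr⟩ := List.mem_map.1 (F.map_row.symm ▸ hr)
  obtain ⟨hy, r', -, hsw, -, hcase⟩ := F.gal σ hx
  obtain rfl := hsw hne
  rw [hxr] at hcase
  have hyr : F.row (galIrr σ x) = nrm (swapRow r) := by
    rcases hcase with ⟨h, -⟩ | ⟨h, -⟩
    · rw [← h, (F.row_nrm _).2]
    · rw [← nrm_neg, ← h, (F.row_nrm _).2]
  rcases hk with hk | ⟨⟨h1, h2⟩, h3⟩
  · exact hk (F.map_row ▸ List.mem_map.2 ⟨_, hy, hyr⟩)
  · have he : galIrr σ x = x := (eq_of_count_one F.row x hx _ hy (by rw [hyr, h1, hxr])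
      (by rw [F.map_row, hxr]; convert h3)).symm
    rw [he, hxr] at hcase
    rcases hcase with ⟨h, -⟩ | ⟨-, h⟩
    · exact h2 h.symm
    · exact F.D_ne x (by omega)

/-- The class multiplication equation at a class. -/
theorem equation_aux [Fintype G] (a : Fin 4) : (14400 * (![30, 6, 10, 10] : Fin 4 → ℕ) a : ℂ) = (Nat.card G : ℂ) *
    ((∑ i, ev (coef a i) * (prin i : ℂ)) + (F.L.map fun x => (rowU (F.row x) : ℂ) * rowU (F.row x) *
      (∑ i, ev (coef a i) * (ent (F.row x) i : ℂ)) / (F.D x : ℂ)).sum) := by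
  classical
  rw [Setup.equation a m, F.sum_split _ (fun x hx => by simp [Setup.uval, hx])]
  have h1 : (deg (princ G : G → ℂ) : ℂ) = 1 := by rw [← irr_apply_one_eq_deg]; rfl
  have hu : Setup.uval m (princ G) = 1 := by
    simp only [Setup.uval, princ, m.princ]; decide
  congr 2
  · rw [h1, hu, Setup.value m]
    simp [princ, m.princ, map_sum, conj_ev]
  · refine congrArg List.sum (List.map_congr_left fun x _ => ?_)
    rw [F.uval_eq, Setup.value m, map_sum]
    simp only [map_mul, conj_ev, map_intCast, F.row_eq, D, Int.cast_mul]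
    have hd : (deg (x : G → ℂ) : ℂ) ≠ 0 := by
      have := F.deg_pos x
      exact_mod_cast (show (deg (x : G → ℂ)) ≠ 0 by omega)
    have hs : (F.sg x : ℂ) * F.sg x = 1 := by exact_mod_cast F.sg_sq x
    have hs0 : (F.sg x : ℂ) ≠ 0 := left_ne_zero_of_mul_eq_one hs
    simp only [mul_left_comm (ev _), ← Finset.mul_sum]
    push_cast
    field_simp
    linear_combination ((rowU (F.row x) : ℂ) ^ 2 * (∑ i, ev (coef a i) * (ent (F.row x) i : ℂ))) *
      ((F.sg x : ℂ) ^ 2 + 1) * hs

theorem eq_t [Fintype G] : (432000 : ℚ) = (Nat.card G : ℚ) *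
    (1 + (F.L.map fun x => (rowU (F.row x) * rowU (F.row x) * rowU (F.row x) : ℚ) / (F.D x : ℚ)).sum) := by
  have h := F.equation_aux 0
  apply Rat.cast_injective (α := ℂ)
  push_cast
  rw [List.map_map]
  have e : ∀ x : Row, (∑ i : Fin 4, ev (coef 0 i) * (ent x i : ℂ)) = (rowU x : ℂ) := fun x => by
    simp [Fin.sum_univ_four, coef, ev_def, rowU]; ring
  simp only [e] at h
  rw [show (∑ i : Fin 4, ev (coef 0 i) * (prin i : ℂ)) = 1 by
    simp [Fin.sum_univ_four, coef, prin, ev_def]; norm_num] at h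
  refine Eq.trans ?_ (h.trans ?_)
  · norm_num
  · congr 3
    refine List.map_congr_left fun x _ => ?_
    simp

theorem eq_six [Fintype G] : (86400 : ℚ) = (Nat.card G : ℚ) *
    (1 + (F.L.map fun x => (rowU (F.row x) * rowU (F.row x) * rowV (F.row x) : ℚ) / (F.D x : ℚ)).sum) := by
  have h := F.equation_aux 1
  apply Rat.cast_injective (α := ℂ)
  push_cast
  rw [List.map_map]
  have e : ∀ x : Row, (∑ i : Fin 4, ev (coef 1 i) * (ent x i : ℂ)) = (rowV x : ℂ) := fun x => by
    simp [Fin.sum_univ_four, coef, ev_def, rowV]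
  simp only [e] at h
  rw [show (∑ i : Fin 4, ev (coef 1 i) * (prin i : ℂ)) = 1 by
    simp [Fin.sum_univ_four, coef, prin, ev_def]] at h
  refine Eq.trans ?_ (h.trans ?_)
  · norm_num
  · congr 3
    refine List.map_congr_left fun x _ => ?_
    simp

theorem eq_ten [Fintype G] : (288000 : ℚ) = (Nat.card G : ℚ) *
    (2 + (F.L.map fun x => (rowU (F.row x) * rowU (F.row x) * rowW (F.row x) : ℚ) / (F.D x : ℚ)).sum) := by
  have h2 := F.equation_aux 2
  have h3 := F.equation_aux 3
  apply Rat.cast_injective (α := ℂ)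
  push_cast
  rw [List.map_map]
  have e : ∀ x : Row, (∑ i : Fin 4, ev (coef 2 i) * (ent x i : ℂ)) + (∑ i : Fin 4, ev (coef 3 i) * (ent x i : ℂ)) =
      (rowW x : ℂ) := fun x => by
    simp [Fin.sum_univ_four, coef, ev_def, rowW]; ring
  have ep : (∑ i : Fin 4, ev (coef 2 i) * (prin i : ℂ)) + (∑ i : Fin 4, ev (coef 3 i) * (prin i : ℂ)) = 2 := by
    simp [Fin.sum_univ_four, coef, prin, ev_def]; ring
  have hsum : ∀ f g : Cfsg.IrrCharacter G → ℂ, (F.L.map fun x => f x + g x).sum = (F.L.map f).sum + (F.L.map g).sum :=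
    fun f g => by
      induction F.L with
      | nil => simp
      | cons a l ih => simp [ih]; ring
  refine Eq.trans ?_ ((congrArg₂ (· + ·) h2 h3).trans ?_)
  · show (288000 : ℂ) = 14400 * ((10 : ℕ) : ℂ) + 14400 * ((10 : ℕ) : ℂ)
    norm_num
  · rw [← mul_add, add_add_add_comm, ep, ← hsum]
    congr 3
    refine List.map_congr_left fun x _ => ?_
    simp only [Function.comp_apply, ]
    push_cast
    rw [← e, ← add_div, ← mul_add]

end Family

end Cfsg.Lib.JankoOne
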