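import Cfsg.Agent.JankoOne.Tau

/-!
The model `2 × A₅` of the centralizer, four functions on `A₅` and the facts about them which are
checked by computation.
-/

set_option autoImplicit false
set_option linter.unusedSectionVars false
set_option maxRecDepth 20000

namespace Cfsg.Lib.JankoOne

open Cfsg.Lib.Chars Equiv
open scoped ComplexConjugate

/-- The alternating group of degree five. -/
abbrev A := alternatingGroup (Fin 5)

/-- The model. -/
abbrev K := Multiplicative (ZMod 2) × A

/-- An element of order five. -/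
def fE : A := ⟨swap 0 1 * swap 1 2 * swap 2 3 * swap 3 4, Equiv.Perm.mem_alternatingGroup.2 (by decide +kernel)⟩

/-- An element of order three. -/
def rE : A := ⟨swap 0 1 * swap 1 2, Equiv.Perm.mem_alternatingGroup.2 (by decide +kernel)⟩

/-- The central involution. -/
def zc : K := (Multiplicative.ofAdd 1, 1)

/-- Conjugation in `A₅`. -/
abbrev CA (u v : A) : Prop := ∃ g : A, g * v * g⁻¹ = u

/-- The classes of elements of odd order. -/
def rep : Fin 4 → A := ![1, rE, fE, fE * fE]

/-- The number of fixed points. -/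
def fix5 (u : A) : ℕ := (Finset.univ.filter fun i : Fin 5 => (u : Perm (Fin 5)) i = i).card

/-- The number of conjugating elements into a power of `fE`. -/
def cnt (u : A) (m : ℕ) : ℤ := (Finset.univ.filter fun g : A => g⁻¹ * u * g = fE ^ m).card

/-- The four functions. -/
def psi (u : A) : Fin 4 → Z5 :=
  if u = 1 then ![(4, 0), (4, 0), (4, 0), (-4, 0)]
  else if u * u * u = 1 then ![(1, 0), (1, 0), (1, 0), (2, 0)]
  else if u * u = 1 then ![0, 0, 0, 0]
  else if CA u fE then ![(1, 1), (2, -1), (-1, 0), (1, 0)]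
  else ![(2, -1), (1, 1), (-1, 0), (1, 0)]

/-- The coefficients expressing the classes. -/
def coef : Fin 4 → Fin 4 → Z5 :=
  ![![(3, 0), (3, 0), (4, 0), (-5, 0)], ![0, 0, (1, 0), (1, 0)],
    ![(0, 1), (1, -1), (-1, 0), 0], ![(1, -1), (0, 1), (-1, 0), 0]]

/-- The multiplicities of the principal character. -/
def prin : Fin 4 → ℤ := ![1, 1, 0, 1]

/-- The inner products of the four functions, doubled. -/
def gram : Fin 4 → Fin 4 → ℤ :=
  ![![4, 2, 0, 2], ![2, 4, 0, 2], ![0, 0, 2, 0], ![2, 2, 0, 4]]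

/-- The order of the centralizer of a representative. -/
def cent : Fin 4 → ℕ := ![60, 3, 5, 5]

theorem psi_inner_check : ∀ i j : Fin 4, ∑ u : A, mulT (psi u i) (psi u j) = (30 * gram i j, 0) := by
  decide +kernel

theorem psi_prin_check : ∀ i : Fin 4, ∑ u : A, psi u i = (60 * prin i, 0) := by decide +kernel

theorem coef_check : ∀ (a : Fin 4) (u : A), ∑ i, mulT (coef a i) (psi u i) =
    if CA u (rep a) then ((cent a : ℤ), 0) else 0 := by
  decide +kernel

theorem class_card : ∀ a : Fin 4, (Finset.univ.filter fun u => CA u (rep a)).card * cent a = 60 := by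
  decide +kernel

theorem psi_conj : ∀ u : A, psi u 1 = conjT (psi u 0) ∧ psi u 2 = conjT (psi u 2) ∧ psi u 3 = conjT (psi u 3) ∧
    psi u 0 = conjT (psi u 1) := by
  decide +kernel

theorem psi_odd : ∀ (u : A) (i : Fin 4), psi u i ≠ 0 → ((Multiplicative.ofAdd 1, u) : K) ^ 15 = zc := by
  decide +kernel

theorem rep_pow : ∀ a : Fin 4, ((Multiplicative.ofAdd 1, rep a) : K) ^ 15 = zc := by decide +kernel

/-- The combinations giving the four functions in terms of the counts and the fixed points. -/
def comb (u : A) : Fin 4 → Z5 :=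
  let i0 : Z5 := (cnt u 0 + cnt u 1 + cnt u 2 + cnt u 3 + cnt u 4, 0)
  let i1 : Z5 := (cnt u 0 - cnt u 1, cnt u 1 - cnt u 2)
  let i2 : Z5 := (cnt u 0 - cnt u 2, cnt u 2 - cnt u 1)
  let p : Z5 := (5 * ((fix5 u : ℤ) - 1), 0)
  let s4 : Z5 := i0 - i1 - i2 + 2 • p
  ![i1 - p + s4, i2 - p + s4, p, s4]

theorem comb_check : ∀ (u : A) (i : Fin 4), comb u i = (5 : ℤ) • psi u i := by decide +kernel

theorem cnt_sym : ∀ u : A, cnt u 1 = cnt u 4 ∧ cnt u 2 = cnt u 3 := by decide +kernel

theorem fE_pow : fE ^ 5 = 1 := by decide +kernel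

theorem fE_inj : ∀ a b : Fin 5, fE ^ (a : ℕ) = fE ^ (b : ℕ) → a = b := by decide +kernel

end Cfsg.Lib.JankoOne
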