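import Cfsg.Agent.Chars.Galois

/-!
The integers of the field generated by the golden ratio, as pairs of integers, and their values in `ℂ`.
-/

set_option autoImplicit false

namespace Cfsg.Lib.JankoOne

open Cfsg.Lib.Chars
open scoped ComplexConjugate

/-- A primitive fifth root of unity. -/
noncomputable def zet : ℂ := zetaC 5

/-- The golden ratio, as a sum of roots of unity. -/
noncomputable def tau : ℂ := 1 + zet + zet ^ 4

theorem zet_pow : zet ^ 5 = 1 := (isPrimitiveRoot_zetaC 5).pow_eq_one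

theorem zet_sum : 1 + zet + zet ^ 2 + zet ^ 3 + zet ^ 4 = 0 := by
  have h := (isPrimitiveRoot_zetaC 5).geom_sum_eq_zero (by norm_num)
  simp only [Finset.sum_range_succ, Finset.sum_range_zero, pow_zero, pow_one, zero_add] at h
  exact h

theorem tau_sq : tau * tau = tau + 1 := by
  unfold tau
  linear_combination zet_sum + (zet ^ 3 + 2) * zet_pow

theorem zet_two_add : zet ^ 2 + zet ^ 3 = -tau := by
  unfold tau
  linear_combination zet_sum

theorem zet_one_add : zet + zet ^ 4 = tau - 1 := by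
  unfold tau; ring

theorem zet_ne : zet ≠ 0 := fun h => by simpa [h] using zet_pow

theorem conj_zet : conj zet = zet ^ 4 := by
  have h1 : ‖zet‖ = 1 := Complex.norm_eq_one_of_pow_eq_one zet_pow (by norm_num)
  have h2 : conj zet * zet = 1 := by
    rw [mul_comm, Complex.mul_conj']
    simp [h1]
  refine mul_right_cancel₀ zet_ne (h2.trans ?_)
  rw [← pow_succ]; exact zet_pow.symm

theorem conj_tau : conj tau = tau := by
  unfold tau
  rw [map_add, map_add, map_one, map_pow, conj_zet, ← pow_mul]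
  linear_combination (zet ^ 11 + zet ^ 6 + zet) * zet_pow

/-- Pairs standing for `a + b τ`. -/
abbrev Z5 := ℤ × ℤ

/-- The product of two pairs. -/
def mulT (x y : Z5) : Z5 := (x.1 * y.1 + x.2 * y.2, x.1 * y.2 + x.2 * y.1 + x.2 * y.2)

/-- The conjugate of a pair. -/
def conjT (x : Z5) : Z5 := (x.1 + x.2, -x.2)

/-- The value of a pair. -/
noncomputable def ev : Z5 →+ ℂ where
  toFun x := (x.1 : ℂ) + (x.2 : ℂ) * tau
  map_zero' := by simp
  map_add' x y := by simp; ring

theorem ev_def (x : Z5) : ev x = (x.1 : ℂ) + (x.2 : ℂ) * tau := rfl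

theorem ev_int (n : ℤ) : ev (n, 0) = (n : ℂ) := by simp [ev_def]

theorem ev_mulT (x y : Z5) : ev (mulT x y) = ev x * ev y := by
  simp only [ev_def, mulT]
  push_cast
  linear_combination -(x.2 : ℂ) * (y.2 : ℂ) * tau_sq

theorem conj_ev (x : Z5) : conj (ev x) = ev x := by simp [ev_def, conj_tau]

/-- An automorphism sending `τ` to `1 - τ`. -/
theorem exists_swap_auto : ∃ σ : ℂ ≃+* ℂ, σ tau = 1 - tau := by
  obtain ⟨σ, hσ⟩ := exists_galConj_auto (m := 5) (k := 2) (by decide)
  refine ⟨σ, ?_⟩
  unfold tau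
  rw [map_add, map_add, map_one, map_pow, hσ zet zet_pow, ← pow_mul]
  linear_combination zet ^ 3 * zet_pow + zet_sum

/-- Every automorphism fixes `τ` or sends it to `1 - τ`. -/
theorem auto_tau (σ : ℂ ≃+* ℂ) : σ tau = tau ∨ σ tau = 1 - tau := by
  have h : σ tau * σ tau = σ tau + 1 := by rw [← map_mul, tau_sq, map_add, map_one]
  have e : (σ tau - tau) * (σ tau - (1 - tau)) = 0 := by linear_combination h - tau_sq
  rcases mul_eq_zero.1 e with e | e
  · exact Or.inl (sub_eq_zero.1 e)
  · exact Or.inr (sub_eq_zero.1 e)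

theorem auto_ev (σ : ℂ ≃+* ℂ) (x : Z5) :
    (σ tau = tau → σ (ev x) = ev x) ∧ (σ tau = 1 - tau → σ (ev x) = ev (conjT x)) := by
  refine ⟨fun h => ?_, fun h => ?_⟩ <;>
    simp only [ev_def, conjT, map_add, map_mul, map_intCast, h]
  push_cast; ring

end Cfsg.Lib.JankoOne
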